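import Mathlib

/-!
# The transfer of an element of prime order, and a fusion contradiction for self-centralising pairs
-/

set_option autoImplicit false

namespace CfsgLib.Sporadic.J3Type

open Subgroup MulAction

variable {G : Type*} [Group G]

/-- The transfer of an element of prime order is the product over the cosets it fixes. -/
theorem transfer_prime [Finite G] (H : Subgroup G) {A : Type*} [CommGroup A] (ϕ : H →* A) {u : G}
    {p : ℕ} (hp : p.Prime) (hu : u ^ p = 1) [Fintype (G ⧸ H)] [DecidableEq (G ⧸ H)]
    (f : G → A) (hf : ∀ (g : G) (h : g⁻¹ * u * g ∈ H), f (g⁻¹ * u * g) = ϕ ⟨_, h⟩) :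
    MonoidHom.transfer ϕ u =
      ∏ a ∈ (Finset.univ.filter fun a : G ⧸ H => u • a = a), f (a.out⁻¹ * u * a.out) := by
  classical
  rw [MonoidHom.transfer_eq_prod_quotient_orbitRel_zpowers_quot]
  rw [← Finset.prod_filter_of_ne (p := fun q : Quotient (orbitRel (zpowers u) (G ⧸ H)) =>
    u • q.out = q.out)]
  · refine Finset.prod_bij (fun q _ => q.out) ?_ ?_ ?_ ?_
    · intro q hq
      simpa using hq
    · intro q₁ _ q₂ _ h
      rw [← Quotient.out_eq q₁, ← Quotient.out_eq q₂, h]
    · intro a ha
      have ha' : u • a = a := (Finset.mem_filter.1 ha).2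
      have hout : (Quotient.mk (orbitRel (zpowers u) (G ⧸ H)) a).out = a := by
        obtain ⟨⟨g, hg⟩, e⟩ := orbitRel_apply.1 (Quotient.mk_out (s := orbitRel (zpowers u) (G ⧸ H)) a)
        rw [← e]
        have : g ∈ stabilizer G a := (zpowers_le.2 (show u ∈ stabilizer G a from ha')) hg
        exact this
      refine ⟨Quotient.mk _ a, ?_, hout⟩
      simp only [Finset.mem_filter, Finset.mem_univ, true_and, hout, ha']
    · intro q hq
      have h1 : Function.minimalPeriod (u • ·) q.out = 1 :=
        Function.minimalPeriod_eq_one_iff_isFixedPt.2 (Finset.mem_filter.1 hq).2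
      have hm := QuotientGroup.out_conj_pow_minimalPeriod_mem H u q.out
      rw [hf _ (by simpa [h1] using hm)]
      exact congrArg ϕ (Subtype.ext (by simp [h1]))
  · intro q _ hne
    by_contra h
    apply hne
    have hd : Function.minimalPeriod (u • ·) q.out ∣ p := by
      refine Function.IsPeriodicPt.minimalPeriod_dvd ?_
      show (u • ·)^[p] q.out = q.out
      rw [smul_iterate, hu]
      exact one_smul G _
    rcases (Nat.dvd_prime hp).1 hd with h1 | h1
    · exact absurd (Function.minimalPeriod_eq_one_iff_isFixedPt.1 h1) h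
    · rw [show (⟨_, QuotientGroup.out_conj_pow_minimalPeriod_mem H u q.out⟩ : H) = 1 from
        Subtype.ext (by simp [h1, hu]), map_one]

end CfsgLib.Sporadic.J3Type
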