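import Cfsg.Agent.Lib.Sporadic.J3Type.Three
import Cfsg.Agent.Lib.PGroup.Frattini
import Cfsg.Prelude.Def_Transfer

/-!
# Local facts in a group with one class of involutions and centraliser `2^{1+4}:A₅`
-/

set_option autoImplicit false
set_option linter.style.haveILetI false
set_option linter.unusedSectionVars false

namespace CfsgLib.Sporadic.J3Type

open Subgroup
open scoped commutatorElement

variable {G : Type*} [Group G] [Finite G]

/-- The hypotheses. -/
structure Hyp (t : G) (E A : Subgroup ↥(centralizer ({t} : Set G))) : Prop where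
  one : ∀ x y : G, orderOf x = 2 → orderOf y = 2 → IsConj x y
  ord : orderOf t = 2
  normal : E.Normal
  extra : Cfsg.IsExtraspecial 2 ↥E
  cardE : Nat.card ↥E = 32
  compl : E.IsComplement' A
  iso : Nonempty (↥A ≃* ↥(alternatingGroup (Fin 5)))

variable {t : G} {E A : Subgroup ↥(centralizer ({t} : Set G))}

theorem alt_facts : ∀ σ : Equiv.Perm (Fin 5), Equiv.Perm.sign σ = 1 →
    (σ ^ 4 = 1 → σ ^ 2 = 1) ∧
      (σ ^ 3 = 1 → σ ≠ 1 → ∀ τ : Equiv.Perm (Fin 5), Equiv.Perm.sign τ = 1 → τ * σ = σ * τ →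
        τ = 1 ∨ τ = σ ∨ τ = σ ^ 2) := by
  decide +kernel

theorem card_alt : Nat.card ↥(alternatingGroup (Fin 5)) = 60 := by
  rw [Nat.card_eq_fintype_card]; rfl

theorem Hyp.cardA (h : Hyp t E A) : Nat.card ↥A = 60 := by
  obtain ⟨e⟩ := h.iso
  rw [Nat.card_congr e.toEquiv, card_alt]

theorem Hyp.cardC (h : Hyp t E A) : Nat.card ↥(centralizer ({t} : Set G)) = 1920 := by
  rw [← h.compl.card_mul_card, h.cardE, h.cardA]

theorem Hyp.card_cent (h : Hyp t E A) {i : G} (hi : orderOf i = 2) :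
    Nat.card (centralizer ({i} : Set G)) = 1920 := by
  rw [Three.card_centralizer_conj (h.one t i h.ord hi), h.cardC]

/-- An element of prime order not dividing 1920 has a centraliser of odd order. -/
theorem Hyp.odd_cent (h : Hyp t E A) {x : G} {q : ℕ} (hx : orderOf x = q) (hq : ¬ q ∣ 1920) :
    Odd (Nat.card (centralizer ({x} : Set G))) := by
  rw [← Nat.not_even_iff_odd, even_iff_two_dvd]
  intro h2
  haveI := Fact.mk Nat.prime_two
  obtain ⟨i, hi⟩ := exists_prime_orderOf_dvd_card' 2 h2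
  apply hq
  have hi' : orderOf (i : G) = 2 := by rwa [orderOf_submonoid]
  have hx' : x ∈ centralizer ({(i : G)} : Set G) :=
    mem_centralizer_singleton_iff.2 (mem_centralizer_singleton_iff.1 i.2).symm
  have := orderOf_dvd_natCard (⟨x, hx'⟩ : centralizer ({(i : G)} : Set G))
  rwa [Subgroup.orderOf_mk, hx, h.card_cent hi'] at this

/-- The projection onto the complement. -/
theorem Hyp.exists_proj (h : Hyp t E A) :
    ∃ π : ↥(centralizer ({t} : Set G)) →* ↥(alternatingGroup (Fin 5)), π.ker = E ∧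
      Function.Surjective π ∧ Function.Injective (π.comp A.subtype) := by
  haveI := h.normal
  obtain ⟨e⟩ := h.iso
  let eQ := h.compl.symm.QuotientMulEquiv
  refine ⟨(eQ.trans e).toMonoidHom.comp (QuotientGroup.mk' E), ?_, ?_, ?_⟩
  · ext x
    simp
  · exact (eQ.trans e).surjective.comp (QuotientGroup.mk'_surjective E)
  · intro a b hab
    have h1 : (QuotientGroup.mk' E (a : ↥(centralizer ({t} : Set G)))) = QuotientGroup.mk' E b :=
      (eQ.trans e).injective hab
    have h2 : ((a : ↥(centralizer ({t} : Set G)))⁻¹ * b) ∈ E := QuotientGroup.eq.1 h1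
    have h3 : ((a : ↥(centralizer ({t} : Set G)))⁻¹ * b) ∈ E ⊓ A := ⟨h2, A.mul_mem (A.inv_mem a.2) b.2⟩
    rw [h.compl.disjoint.eq_bot, mem_bot, inv_mul_eq_one] at h3
    exact Subtype.ext h3

/-- The centre of `E` and the commutators in `E`. -/
theorem Hyp.exists_z (h : Hyp t E A) : ∃ z : ↥(centralizer ({t} : Set G)), z ∈ E ∧ z ≠ 1 ∧
    z * z = 1 ∧ (∀ c, c * z = z * c) ∧
    (∀ x ∈ E, ∀ y ∈ E, ⁅x, y⁆ = 1 ∨ ⁅x, y⁆ = z) ∧ (∃ x ∈ E, ∃ y ∈ E, ⁅x, y⁆ = z) := by
  haveI := h.normal
  have hZ : Nat.card (center ↥E) = 2 := h.extra.2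
  obtain ⟨x0, y0, hne, -⟩ := Nat.card_eq_two_iff.1 hZ
  obtain ⟨z, hz1⟩ : ∃ z : center ↥E, z ≠ 1 := by
    by_cases hx : x0 = 1
    · exact ⟨y0, fun e => hne (hx.trans e.symm)⟩
    · exact ⟨x0, hx⟩
  have hall : ∀ w : center ↥E, w = 1 ∨ w = z := by
    intro w
    obtain ⟨a, b, -, hab⟩ := Nat.card_eq_two_iff.1 hZ
    have := Set.eq_univ_iff_forall.1 hab
    rcases this w with e1 | e1 <;> rcases this z with e2 | e2 <;> rcases this 1 with e3 | e3 <;>
      simp_all
  have hcomm : commutator ↥E = center ↥E := h.extra.1.2.2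
  refine ⟨((z : ↥E) : ↥(centralizer ({t} : Set G))), (z : ↥E).2, fun e => hz1 (Subtype.ext (Subtype.ext e)),
    ?_, ?_, ?_, ?_⟩
  · rcases hall (z * z) with e | e
    · exact congrArg (fun w : center ↥E => ((w : ↥E) : ↥(centralizer ({t} : Set G)))) e
    · exact absurd (mul_eq_left.1 e) hz1
  · intro c
    set z' : ↥(centralizer ({t} : Set G)) := ((z : ↥E) : ↥(centralizer ({t} : Set G)))
    have hmem : (⟨c * z' * c⁻¹, h.normal.conj_mem _ (z : ↥E).2 c⟩ : ↥E) ∈ center ↥E := by
      rw [mem_center_iff]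
      intro g
      have hg : c⁻¹ * (g : ↥(centralizer ({t} : Set G))) * c ∈ E := by
        simpa using h.normal.conj_mem _ g.2 c⁻¹
      have := congrArg Subtype.val (mem_center_iff.1 z.2 ⟨_, hg⟩)
      simp only [Subgroup.coe_mul] at this ⊢
      apply Subtype.ext
      simp only [Subgroup.coe_mul]
      calc (g : ↥(centralizer ({t} : Set G))) * (c * z' * c⁻¹) = c * (c⁻¹ * g * c * z') * c⁻¹ := by group
        _ = c * (z' * (c⁻¹ * g * c)) * c⁻¹ := by rw [this]
        _ = _ := by group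
    rcases hall ⟨_, hmem⟩ with e | e
    · have e' : c * z' * c⁻¹ = 1 := congrArg (fun w : center ↥E => ((w : ↥E) : ↥(centralizer ({t} : Set G)))) e
      exact absurd (Subtype.ext (Subtype.ext (conj_eq_one_iff.1 e'))) hz1
    · have e' : c * z' * c⁻¹ = z' := congrArg (fun w : center ↥E => ((w : ↥E) : ↥(centralizer ({t} : Set G)))) e
      exact mul_inv_eq_iff_eq_mul.1 e'
  · intro x hx y hy
    have hm : ⁅(⟨x, hx⟩ : ↥E), ⟨y, hy⟩⁆ ∈ center ↥E :=
      (by rw [← hcomm, commutator_def]; exact commutator_mem_commutator (mem_top _) (mem_top _))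
    rcases hall ⟨_, hm⟩ with e | e
    · exact Or.inl (congrArg (fun w : center ↥E => ((w : ↥E) : ↥(centralizer ({t} : Set G)))) e)
    · exact Or.inr (congrArg (fun w : center ↥E => ((w : ↥E) : ↥(centralizer ({t} : Set G)))) e)
  · by_contra hno
    have hbot : commutator ↥E = ⊥ := by
      rw [commutator_def, eq_bot_iff, commutator_le]
      intro x _ y _
      have hm : ⁅x, y⁆ ∈ center ↥E := (by rw [← hcomm, commutator_def]; exact commutator_mem_commutator (mem_top _) (mem_top _))
      rcases hall ⟨_, hm⟩ with e | e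
      · exact congrArg Subtype.val e
      · exact absurd ⟨x, x.2, y, y.2, congrArg (fun w : center ↥E => ((w : ↥E) : ↥(centralizer ({t} : Set G)))) e⟩ hno
    rw [hcomm] at hbot
    rw [hbot, card_bot] at hZ
    exact absurd hZ (by norm_num)

theorem two_pow_card {S : Type*} [Group S] [Finite S] (h : IsPGroup 2 S) : ∃ k, Nat.card S = 2 ^ k := by
  haveI := Fact.mk Nat.prime_two
  exact IsPGroup.iff_card.1 h

/-- An element of `C` of order three does not centralise `E`. -/
theorem Hyp.faithful (h : Hyp t E A) {w : ↥(centralizer ({t} : Set G))} (hw : orderOf w = 3)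
    (hc : ∀ e ∈ E, w * e = e * w) : False := by
  classical
  haveI := h.normal
  haveI := Fact.mk Nat.prime_two
  obtain ⟨π, hker, hsurj, hinj⟩ := h.exists_proj
  obtain ⟨z, hzE, hz1, hzz, hzc, hzcomm, x₀, hx₀, y₀, hy₀, hxy⟩ := h.exists_z
  have hwE : w ∉ E := fun hm => by
    have := orderOf_dvd_natCard (⟨w, hm⟩ : ↥E)
    rw [Subgroup.orderOf_mk, hw, h.cardE] at this
    norm_num at this
  -- the centraliser of `E` maps onto `A₅`
  have hnz : (centralizer (E : Set ↥(centralizer ({t} : Set G)))).map π = ⊤ := by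
    haveI : (centralizer (E : Set ↥(centralizer ({t} : Set G)))).Normal := Subgroup.normal_centralizer
    rcases (Normal.map ‹_› π hsurj).eq_bot_or_eq_top with e | e
    · exfalso
      have hwC : w ∈ centralizer (E : Set ↥(centralizer ({t} : Set G))) :=
        mem_centralizer_iff.2 fun e he => (hc e he).symm
      have : π w = 1 := by
        rw [← mem_bot, ← e]; exact mem_map_of_mem π hwC
      exact hwE (hker ▸ this)
    · exact e
  -- hence an element of `A` acts on `E` as an element of `E`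
  have hin : ∀ a ∈ A, ∃ e ∈ E, ∀ x ∈ E, a * x * a⁻¹ = e * x * e⁻¹ := by
    intro a ha
    have : π a ∈ (centralizer (E : Set ↥(centralizer ({t} : Set G)))).map π := hnz ▸ mem_top _
    obtain ⟨c, hc, hca⟩ := mem_map.1 this
    refine ⟨a * c⁻¹, ?_, fun x hx => ?_⟩
    · rw [← hker, MonoidHom.mem_ker, map_mul, map_inv, hca, mul_inv_cancel]
    · have hcx := mem_centralizer_iff.1 hc x hx
      calc a * x * a⁻¹ = a * c⁻¹ * (c * x) * a⁻¹ := by group
        _ = a * c⁻¹ * (x * c) * a⁻¹ := by rw [hcx]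
        _ = _ := by group
  -- so commutators in `A` centralise `E`, and `A` is perfect
  have hA : ∀ a ∈ A, ∀ x ∈ E, a * x = x * a := by
    let K : Subgroup ↥A := (centralizer (E : Set ↥(centralizer ({t} : Set G)))).subgroupOf A
    have hK : ∀ a b : ↥A, ⁅a, b⁆ ∈ K := by
      intro a b
      obtain ⟨e, he, hea⟩ := hin a a.2
      obtain ⟨f, hf, hfb⟩ := hin b b.2
      obtain ⟨e', he', hea'⟩ := hin (a : ↥(centralizer ({t} : Set G)))⁻¹ (inv_mem a.2)
      obtain ⟨f', hf', hfb'⟩ := hin (b : ↥(centralizer ({t} : Set G)))⁻¹ (inv_mem b.2)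
      show ((⁅a, b⁆ : ↥A) : ↥(centralizer ({t} : Set G))) ∈ centralizer (E : Set ↥(centralizer ({t} : Set G)))
      refine mem_centralizer_iff.2 fun x hx => ?_
      set α := (a : ↥(centralizer ({t} : Set G)))
      set β := (b : ↥(centralizer ({t} : Set G)))
      have hcen : ∀ v ∈ E, ∀ x ∈ E, v * x * v⁻¹ = x ∨ v * x * v⁻¹ = z * x := by
        intro v hv x hx
        rcases hzcomm v hv x hx with e | e
        · exact Or.inl (by rw [commutatorElement_def] at e; exact mul_inv_eq_one.1 e)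
        · exact Or.inr (by rw [commutatorElement_def] at e; exact mul_inv_eq_iff_eq_mul.1 e)
      have hcomm2 : ∀ u ∈ E, ∀ v ∈ E, ∀ x ∈ E, u * (v * x * v⁻¹) * u⁻¹ = v * (u * x * u⁻¹) * v⁻¹ := by
        intro u hu v hv x hx
        have hz' : ∀ w ∈ E, ∀ y, w * (z * y) * w⁻¹ = z * (w * y * w⁻¹) := fun w _ y => by
          calc w * (z * y) * w⁻¹ = w * z * (y * w⁻¹) := by group
            _ = z * w * (y * w⁻¹) := by rw [hzc w]
            _ = _ := by group
        rcases hcen v hv x hx with e1 | e1 <;> rcases hcen u hu x hx with e2 | e2 <;>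
          simp only [e1, e2, hz' u hu, hz' v hv]
      have key : α * β * α⁻¹ * β⁻¹ * x * (α * β * α⁻¹ * β⁻¹)⁻¹ = x := by
        have i1 : ∀ y ∈ E, α * (α⁻¹ * y * α⁻¹⁻¹) * α⁻¹ = y := fun y _ => by group
        calc α * β * α⁻¹ * β⁻¹ * x * (α * β * α⁻¹ * β⁻¹)⁻¹
            = α * (β * (α⁻¹ * (β⁻¹ * x * β⁻¹⁻¹) * α⁻¹⁻¹) * β⁻¹) * α⁻¹ := by group
          _ = α * (f * (e' * (β⁻¹ * x * β⁻¹⁻¹) * e'⁻¹) * f⁻¹) * α⁻¹ := by
              rw [hea' _ (h.normal.conj_mem _ hx _), hfb _ (h.normal.conj_mem _ (h.normal.conj_mem _ hx _) _)]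
          _ = α * (e' * (f * (β⁻¹ * x * β⁻¹⁻¹) * f⁻¹) * e'⁻¹) * α⁻¹ := by
              rw [hcomm2 f hf e' he' _ (h.normal.conj_mem _ hx _)]
          _ = α * (α⁻¹ * (β * (β⁻¹ * x * β⁻¹⁻¹) * β⁻¹) * α⁻¹⁻¹) * α⁻¹ := by
              rw [← hfb _ (h.normal.conj_mem _ hx _),
                hea' _ (h.normal.conj_mem _ (h.normal.conj_mem _ hx _) _)]
          _ = x := by group
      show x * (α * β * α⁻¹ * β⁻¹) = α * β * α⁻¹ * β⁻¹ * x
      exact (mul_inv_eq_iff_eq_mul.1 key).symm
    intro a ha x hx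
    obtain ⟨eA⟩ := h.iso
    haveI : IsSimpleGroup ↥A := eA.isSimpleGroup
    have hperf : commutator ↥A = ⊤ := by
      rcases (inferInstance : (commutator ↥A).Normal).eq_bot_or_eq_top with e | e
      · exfalso
        have hab : ∀ x y : ↥A, x * y = y * x := fun x y => by
          rw [← commutatorElement_eq_one_iff_mul_comm, ← mem_bot, ← e]
          exact commutator_mem_commutator (mem_top _) (mem_top _)
        have : ∀ σ τ : ↥(alternatingGroup (Fin 5)), σ * τ = τ * σ := fun σ τ => by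
          rw [← eA.apply_symm_apply σ, ← eA.apply_symm_apply τ, ← map_mul, hab, map_mul]
        exact absurd this (by decide +kernel)
      · exact e
    have : (⟨a, ha⟩ : ↥A) ∈ K := by
      have hle : commutator ↥A ≤ K := by
        rw [commutator_def, commutator_le]; exact fun a _ b _ => hK a b
      exact hle (hperf ▸ mem_top _)
    exact (mem_centralizer_iff.1 this x hx).symm
  -- a Sylow subgroup `S = E × V` of `C` and an involution `a` in `V`
  obtain ⟨V⟩ := (inferInstance : Nonempty (Sylow 2 ↥A))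
  have hV : Nat.card V = 4 := by
    rw [V.card_eq_multiplicity, h.cardA]
    rw [Nat.factorization_def _ Nat.prime_two, show 60 = 2 ^ 2 * 15 from rfl,
      padicValNat.mul (by norm_num) (by norm_num), padicValNat.prime_pow,
      padicValNat.eq_zero_of_not_dvd (by norm_num)]
    norm_num
  set W : Subgroup ↥(centralizer ({t} : Set G)) := (V : Subgroup ↥A).map A.subtype
  have hW : Nat.card W = 4 := by rw [card_map_of_injective A.subtype_injective]; exact hV
  have hWA : W ≤ A := map_subtype_le _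
  haveI : IsMulCommutative ↥W := IsPGroup.isMulCommutative_of_card_eq_prime_sq (p := 2) hW
  have hdis : E ⊓ W = ⊥ := le_bot_iff.1 ((inf_le_inf_left E hWA).trans h.compl.disjoint.le_bot)
  set S := E ⊔ W
  have hS : Nat.card S = 128 := by
    have h1 : Nat.card ↥(E ⊔ W : Subgroup ↥(centralizer ({t} : Set G))) = Nat.card ↥E * Nat.card ↥W := by
      rw [← Nat.card_prod]
      refine (Nat.card_eq_of_bijective (fun p : ↥E × ↥W => (⟨(p.1 : ↥(centralizer ({t} : Set G))) * p.2,
        mul_mem (mem_sup_left p.1.2) (mem_sup_right p.2.2)⟩ : ↥(E ⊔ W))) ⟨?_, ?_⟩).symm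
      · rintro ⟨a, b⟩ ⟨c, d⟩ e
        obtain ⟨e1, e2⟩ := (Prod.ext_iff).1 (mul_injective_of_disjoint (disjoint_iff.2 hdis)
          (a₁ := (a, b)) (a₂ := (c, d)) (congrArg Subtype.val e))
        exact Prod.ext e1 e2
      · rintro ⟨x, hx⟩
        rw [sup_eq_closure, ← SetLike.mem_coe] at hx
        have hx' : x ∈ E ⊔ W := by rw [sup_eq_closure]; exact hx
        obtain ⟨a, ha, b, hb, rfl⟩ := mem_sup_of_normal_left.1 hx'
        exact ⟨(⟨a, ha⟩, ⟨b, hb⟩), rfl⟩
    rw [h1, h.cardE, hW]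
  have hcommS : ∀ x ∈ S, ∀ y ∈ S, ⁅x, y⁆ = 1 ∨ ⁅x, y⁆ = z := by
    intro x hx y hy
    obtain ⟨a, ha, b, hb, rfl⟩ := mem_sup_of_normal_left.1 hx
    obtain ⟨c, hc, d, hd, rfl⟩ := mem_sup_of_normal_left.1 hy
    have h1 : b * c = c * b := hA b (hWA hb) c hc
    have h2 : d * a = a * d := hA d (hWA hd) a ha
    have h3 : b * d = d * b := congrArg Subtype.val ((inferInstance : IsMulCommutative ↥W).is_comm.comm ⟨b, hb⟩ ⟨d, hd⟩)
    have h4 : b * a = a * b := hA b (hWA hb) a ha
    have h5 : d * c = c * d := hA d (hWA hd) c hc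
    have e : ⁅a * b, c * d⁆ = ⁅a, c⁆ := by
      simp only [commutatorElement_def]
      calc a * b * (c * d) * (a * b)⁻¹ * (c * d)⁻¹ = a * (b * c) * d * b⁻¹ * a⁻¹ * d⁻¹ * c⁻¹ := by group
        _ = a * c * (b * d) * b⁻¹ * a⁻¹ * d⁻¹ * c⁻¹ := by rw [h1]; group
        _ = a * c * (d * a⁻¹) * d⁻¹ * c⁻¹ := by rw [h3]; group
        _ = a * c * (a⁻¹ * d) * d⁻¹ * c⁻¹ := by
            rw [show d * a⁻¹ = a⁻¹ * d by
              calc d * a⁻¹ = a⁻¹ * (a * d) * a⁻¹ := by group
                _ = a⁻¹ * (d * a) * a⁻¹ := by rw [h2]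
                _ = _ := by group]
        _ = _ := by group
    rw [e]
    exact hzcomm a ha c hc
  obtain ⟨a, hao⟩ := exists_prime_orderOf_dvd_card' (G := ↥W) 2 (by rw [hW]; norm_num)
  have haW : (a : ↥(centralizer ({t} : Set G))) ∈ W := a.2
  have hza : ((a : ↥(centralizer ({t} : Set G))) : G) ≠ ((z : ↥(centralizer ({t} : Set G))) : G) := by
    intro e
    have : (a : ↥(centralizer ({t} : Set G))) ∈ E ⊓ W := ⟨(Subtype.ext e : (a : ↥(centralizer ({t} : Set G))) = z) ▸ hzE, haW⟩
    rw [hdis, mem_bot] at this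
    rw [show a = 1 from Subtype.ext this, orderOf_one] at hao
    norm_num at hao
  have haS : ∀ x ∈ S, x * (a : ↥(centralizer ({t} : Set G))) = a * x := by
    intro x hx
    obtain ⟨c, hc, d, hd, rfl⟩ := mem_sup_of_normal_left.1 hx
    rw [mul_assoc, show d * (a : ↥(centralizer ({t} : Set G))) = a * d from
      congrArg Subtype.val ((inferInstance : IsMulCommutative ↥W).is_comm.comm ⟨d, hd⟩ a), ← mul_assoc,
      ← hA a (hWA haW) c hc, mul_assoc]
  -- `a` is conjugate to `z` by an element normalising `S`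
  have hzo : orderOf (z : G) = 2 := by
    rw [orderOf_submonoid]; exact orderOf_eq_prime (by rw [pow_two, hzz]) hz1
  have hao' : orderOf ((a : ↥(centralizer ({t} : Set G))) : G) = 2 := by rwa [orderOf_submonoid, orderOf_submonoid]
  obtain ⟨g, hg⟩ := isConj_iff.1 (h.one _ _ hao' hzo)
  have hCz : centralizer ({(z : G)} : Set G) = centralizer ({t} : Set G) := by
    refine (eq_of_le_of_card_ge (fun x hx => mem_centralizer_singleton_iff.2
      (congrArg Subtype.val (hzc ⟨x, hx⟩))) ?_).symm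
    rw [h.card_cent hzo, h.cardC]
  set SG := S.map (centralizer ({t} : Set G)).subtype
  have hSG : Nat.card SG = 128 := by rw [card_map_of_injective (subtype_injective _), hS]
  have hgS : SG.map (MulAut.conj g).toMonoidHom ≤ centralizer ({t} : Set G) := by
    rintro _ ⟨_, ⟨x, hx, rfl⟩, rfl⟩
    apply hCz.le
    refine mem_centralizer_singleton_iff.2 ?_
    have := congrArg Subtype.val (haS x hx)
    simp only [Subgroup.coe_mul] at this
    show g * (x : G) * g⁻¹ * (z : G) = (z : G) * (g * (x : G) * g⁻¹)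
    rw [← hg]
    calc g * (x : G) * g⁻¹ * (g * ((a : ↥(centralizer ({t} : Set G))) : G) * g⁻¹)
        = g * ((x : G) * ((a : ↥(centralizer ({t} : Set G))) : G)) * g⁻¹ := by group
      _ = g * (((a : ↥(centralizer ({t} : Set G))) : G) * (x : G)) * g⁻¹ := by rw [this]
      _ = _ := by group
  have hf : Nat.card ↥(centralizer ({t} : Set G)) = 2 ^ 7 * 15 := h.cardC
  have hsyl : ∀ T : Subgroup ↥(centralizer ({t} : Set G)), Nat.card T = 128 →
      ∃ P : Sylow 2 ↥(centralizer ({t} : Set G)), (P : Subgroup _) = T := by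
    intro T hT
    refine ⟨Sylow.ofCard T ?_, rfl⟩
    rw [hT, hf, Nat.factorization_def _ Nat.prime_two, padicValNat.mul (by norm_num) (by norm_num),
      padicValNat.prime_pow, padicValNat.eq_zero_of_not_dvd (by norm_num)]
    norm_num
  set T := (SG.map (MulAut.conj g).toMonoidHom).subgroupOf (centralizer ({t} : Set G))
  have hT : Nat.card T = 128 := by
    rw [Nat.card_congr (subgroupOfEquivOfLe hgS).toEquiv,
      card_map_of_injective (MulAut.conj g).injective, hSG]
  obtain ⟨P, hP⟩ := hsyl T hT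
  obtain ⟨Q, hQ⟩ := hsyl S hS
  obtain ⟨c, hc⟩ := MulAction.exists_smul_eq ↥(centralizer ({t} : Set G)) P Q
  have hn : ∀ x : ↥(centralizer ({t} : Set G)), x ∈ S →
      ∃ y ∈ S, (y : G) = (c : G) * (g * (x : G) * g⁻¹) * (c : G)⁻¹ := by
    intro x hx
    have hxT : (⟨g * (x : G) * g⁻¹, hgS ⟨_, ⟨x, hx, rfl⟩, rfl⟩⟩ : ↥(centralizer ({t} : Set G))) ∈ T :=
      ⟨_, ⟨x, hx, rfl⟩, rfl⟩
    refine ⟨c * ⟨_, hgS ⟨_, ⟨x, hx, rfl⟩, rfl⟩⟩ * c⁻¹, ?_, rfl⟩
    apply hQ.le
    rw [← hc]
    show _ ∈ ((c • P : Sylow 2 ↥(centralizer ({t} : Set G))) : Subgroup ↥(centralizer ({t} : Set G)))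
    rw [Sylow.coe_subgroup_smul]
    exact ⟨_, hP ▸ hxT, rfl⟩
  obtain ⟨X, hX, hXe⟩ := hn x₀ (mem_sup_left hx₀)
  obtain ⟨Y, hY, hYe⟩ := hn y₀ (mem_sup_left hy₀)
  have hXY : ((⁅X, Y⁆ : ↥(centralizer ({t} : Set G))) : G) = (c : G) * (g * (z : G) * g⁻¹) * (c : G)⁻¹ := by
    rw [← hxy]
    simp only [commutatorElement_def, Subgroup.coe_mul, Subgroup.coe_inv, hXe, hYe]
    group
  have hz' : (z : G) = (c : G) * (g * (z : G) * g⁻¹) * (c : G)⁻¹ := by
    rcases hcommS X hX Y hY with e | e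
    · exfalso
      rw [e] at hXY
      apply hz1
      apply Subtype.ext
      have h1 := hXY.symm
      simp only [OneMemClass.coe_one] at h1 ⊢
      rw [conj_eq_one_iff, conj_eq_one_iff] at h1
      exact h1
    · rw [e] at hXY; exact hXY
  have hcz : (c : G)⁻¹ * (z : G) * (c : G) = (z : G) := by
    have := congrArg Subtype.val (hzc c)
    simp only [Subgroup.coe_mul] at this
    rw [mul_assoc, ← this, inv_mul_cancel_left]
  have : g * (z : G) * g⁻¹ = g * ((a : ↥(centralizer ({t} : Set G))) : G) * g⁻¹ := by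
    rw [hg]
    calc g * (z : G) * g⁻¹ = (c : G)⁻¹ * ((c : G) * (g * (z : G) * g⁻¹) * (c : G)⁻¹) * (c : G) := by group
      _ = _ := by rw [← hz', hcz]
  exact hza (mul_left_cancel (mul_right_cancel this)).symm

/-- No element has order sixteen. -/
theorem Hyp.no_sixteen (h : Hyp t E A) (g : G) : orderOf g ≠ 16 := by
  intro hg
  haveI := Fact.mk Nat.prime_two
  have hi : orderOf (g ^ 8) = 2 := by rw [orderOf_pow, hg]; norm_num
  obtain ⟨d, hd⟩ := isConj_iff.1 (h.one _ t hi h.ord)
  have hmem : d * g * d⁻¹ ∈ centralizer ({t} : Set G) := by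
    refine mem_centralizer_singleton_iff.2 ?_
    rw [← hd]
    group
  set x : ↥(centralizer ({t} : Set G)) := ⟨_, hmem⟩
  have h16 : x ^ 16 = 1 := Subtype.ext (by
    show (d * g * d⁻¹) ^ 16 = 1
    rw [conj_pow, ← hg, pow_orderOf_eq_one]; simp)
  obtain ⟨π, hker, -, -⟩ := h.exists_proj
  have h4 : π x ^ 4 = 1 := by
    have h60 : π x ^ 60 = 1 := card_alt ▸ pow_card_eq_one'
    have := pow_gcd_eq_one.2 ⟨show π x ^ 16 = 1 by rw [← map_pow, h16, map_one], h60⟩
    simpa using this
  have h2 : π x ^ 2 = 1 := Subtype.ext ((alt_facts _ (π x).2).1 (congrArg Subtype.val h4))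
  have hE : x ^ 2 ∈ E := by rw [← hker, MonoidHom.mem_ker, map_pow, h2]
  set e : ↥E := ⟨_, hE⟩
  have hfr : e ^ 2 ∈ center ↥E := h.extra.1.2.1 ▸ CfsgLib.PGroup.Frattini.pow_mem_frattini h.extra.1.1 e
  have h8 : e ^ 4 = 1 := by
    have := pow_card_eq_one' (G := center ↥E) (x := ⟨_, hfr⟩)
    rw [h.extra.2] at this
    calc e ^ 4 = (e ^ 2) ^ 2 := by rw [← pow_mul]
      _ = 1 := congrArg Subtype.val this
  have : (d * g * d⁻¹) ^ 8 = 1 := by
    have h' := congrArg (fun y : ↥E => ((y : ↥(centralizer ({t} : Set G))) : G)) h8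
    simpa [e, x, ← pow_mul] using h'
  rw [conj_pow, hd] at this
  have ho := h.ord
  rw [this, orderOf_one] at ho
  norm_num at ho

/-- The centraliser in `C` of an element of order three. -/
theorem Hyp.three_cent (h : Hyp t E A) {w : ↥(centralizer ({t} : Set G))} (hw : orderOf w = 3) :
    ∃ r m : ℕ, (r = 1 ∨ r = 3) ∧ Odd m ∧ Nat.card (centralizer ({w} : Set ↥(centralizer ({t} : Set G)))) = 2 ^ r * m := by
  classical
  haveI := h.normal
  haveI := Fact.mk Nat.prime_three
  obtain ⟨π, hker, -, -⟩ := h.exists_proj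
  set K := centralizer ({w} : Set ↥(centralizer ({t} : Set G)))
  have hwE : w ∉ E := fun hm => by
    have := orderOf_dvd_natCard (⟨w, hm⟩ : ↥E)
    rw [Subgroup.orderOf_mk, hw, h.cardE] at this
    norm_num at this
  -- the fixed points on `E`
  have hk := (π.comp K.subtype).ker.card_mul_index
  rw [index_ker] at hk
  have hkerK : (π.comp K.subtype).ker = E.subgroupOf K := by rw [← hker]; rfl
  rw [hkerK] at hk
  have himg : Nat.card (π.comp K.subtype).range ∣ 3 := by
    have hle : (π.comp K.subtype).range ≤ zpowers (π w) := by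
      rintro _ ⟨y, rfl⟩
      have hc : π y * π w = π w * π y := by
        rw [← map_mul, ← map_mul, mem_centralizer_singleton_iff.1 y.2]
      have hw3 : π w ^ 3 = 1 := by rw [← map_pow, ← hw, pow_orderOf_eq_one, map_one]
      have hw1 : π w ≠ 1 := fun e => hwE (hker ▸ e)
      show π (y : ↥(centralizer ({t} : Set G))) ∈ _
      rcases (alt_facts _ (π w).2).2 (congrArg Subtype.val hw3) (fun e => hw1 (Subtype.ext e)) _
        (π y).2 (congrArg Subtype.val hc) with e | e | e
      · rw [show π y = 1 from Subtype.ext e]; exact one_mem _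
      · rw [show π y = π w from Subtype.ext e]; exact mem_zpowers _
      · rw [show π (y : ↥(centralizer ({t} : Set G))) = π w ^ 2 from Subtype.ext e]; exact pow_mem (mem_zpowers _) 2
    refine (card_dvd_of_le hle).trans ?_
    rw [Nat.card_zpowers]
    exact orderOf_dvd_of_pow_eq_one (by rw [← map_pow, ← hw, pow_orderOf_eq_one, map_one])
  have hfix : Nat.card ↥(E.subgroupOf K) % 3 = 2 := by
    letI : MulAction (zpowers w) ↥E :=
      { smul := fun g e => ⟨(g : ↥(centralizer ({t} : Set G))) * e * (g : ↥(centralizer ({t} : Set G)))⁻¹,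
          h.normal.conj_mem _ e.2 _⟩
        one_smul := fun e => Subtype.ext (by
          show ((1 : zpowers w) : ↥(centralizer ({t} : Set G))) * e * _ = e
          simp)
        mul_smul := fun g g' e => Subtype.ext (by
          show ((g * g' : zpowers w) : ↥(centralizer ({t} : Set G))) * e * _ = (g : ↥(centralizer ({t} : Set G))) * (g' * e * _) * _
          simp [mul_assoc]) }
    have hp : IsPGroup 3 (zpowers w) := IsPGroup.of_card (n := 1) (by rw [Nat.card_zpowers, hw, pow_one])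
    have hm := hp.card_modEq_card_fixedPoints ↥E
    rw [h.cardE] at hm
    have he : Nat.card (MulAction.fixedPoints (zpowers w) ↥E) = Nat.card ↥(E.subgroupOf K) := by
      refine Nat.card_congr
        { toFun := fun e => ⟨⟨(e.1 : ↥(centralizer ({t} : Set G))), mem_centralizer_singleton_iff.2 ?_⟩, e.1.2⟩
          invFun := fun y => ⟨⟨(y.1 : ↥(centralizer ({t} : Set G))), y.2⟩, fun g => Subtype.ext ?_⟩
          left_inv := fun _ => rfl
          right_inv := fun _ => rfl }
      · have := congrArg Subtype.val (e.2 ⟨w, mem_zpowers w⟩)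
        exact (mul_inv_eq_iff_eq_mul.1 this).symm
      · obtain ⟨i, hi⟩ := g.2
        have hc : Commute w (y.1 : ↥(centralizer ({t} : Set G))) := (mem_centralizer_singleton_iff.1 y.1.2).symm
        show (g : ↥(centralizer ({t} : Set G))) * y.1 * (g : ↥(centralizer ({t} : Set G)))⁻¹ = y.1
        rw [← hi, (hc.zpow_left i).eq, mul_inv_cancel_right]
    rw [he] at hm
    exact hm.symm
  have hd : Nat.card ↥(E.subgroupOf K) ∣ 2 ^ 5 := by
    have := Subgroup.card_comap_dvd_of_injective E K.subtype K.subtype_injective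
    rwa [h.cardE] at this
  have hne : Nat.card ↥(E.subgroupOf K) ≠ 32 := by
    intro e
    refine h.faithful hw fun x hx => ?_
    have hle : E ⊓ K = E := eq_of_le_of_card_ge inf_le_left (by
      rw [← inf_subgroupOf_right, Nat.card_congr (subgroupOfEquivOfLe inf_le_right).toEquiv] at e
      rw [h.cardE, e])
    exact (mem_centralizer_singleton_iff.1 (hle.ge hx).2).symm
  obtain ⟨r, hr, hre⟩ := (Nat.dvd_prime_pow Nat.prime_two).1 hd
  refine ⟨r, Nat.card (π.comp K.subtype).range, ?_, ?_, by rw [← hre]; exact hk.symm⟩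
  · rw [hre] at hfix hne
    have : r = 0 ∨ r = 1 ∨ r = 2 ∨ r = 3 ∨ r = 4 ∨ r = 5 := by omega
    rcases this with rfl | rfl | rfl | rfl | rfl | rfl <;> simp at hfix hne ⊢
  · exact Odd.of_dvd_nat (by decide) himg

end CfsgLib.Sporadic.J3Type
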