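import Cfsg.Agent.Lib.Sporadic.J3Type.Three

/-!
# The transfer contradiction

The conjugates of the element meet two cosets of `P'`, interchanged by an involution of the
normaliser, nineteen cosets of `P` each; so the transfer of the element is not trivial.
-/

set_option autoImplicit false
set_option linter.style.haveILetI false
set_option linter.unusedSectionVars false

namespace CfsgLib.Sporadic.J3Type.Three

open Subgroup

variable {G : Type*} [Group G] [Finite G] {u : G} {P : Sylow 3 G}

/-- The value of a conjugate in the abelianisation. -/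
noncomputable def fv (P : Sylow 3 G) (g : G) : Abelianization ↥(P : Subgroup G) :=
  haveI := _root_.Classical.propDecidable (g ∈ (P : Subgroup G))
  if h : g ∈ (P : Subgroup G) then fP P ⟨g, h⟩ else 1

theorem fv_of_mem {g : G} (h : g ∈ (P : Subgroup G)) : fv P g = fP P ⟨g, h⟩ := by
  unfold fv; rw [dif_pos h]

theorem mem_of_fv_ne {g : G} (h : fv P g ≠ 1) : g ∈ (P : Subgroup G) := by
  by_contra hg; exact h (by unfold fv; rw [dif_neg hg])

theorem card_commutator (h : Data u P) {v : ↥(P : Subgroup G)} (hv : IsConj u v) :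
    Nat.card (fP P).ker = 27 ∧ Nat.card (Abelianization ↥(P : Subgroup G)) = 9 := by
  have h1 : 27 ≤ Nat.card (fP P).ker := by
    have hc := (centralizer ({v} : Set ↥(P : Subgroup G))).card_mul_index
    rw [cent_in_P h hv, h.cardP] at hc
    let ψ : ↥(P : Subgroup G) → (fP P).ker := fun a =>
      ⟨a * v * a⁻¹ * v⁻¹, by simp [MonoidHom.mem_ker, mul_comm]⟩
    have hfac : ∀ a b : ↥(P : Subgroup G),
        (ψ a = ψ b ↔ a⁻¹ * b ∈ centralizer ({v} : Set ↥(P : Subgroup G))) := by
      intro a b
      rw [Subtype.ext_iff, mem_centralizer_singleton_iff]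
      show a * v * a⁻¹ * v⁻¹ = b * v * b⁻¹ * v⁻¹ ↔ _
      rw [mul_right_cancel_iff]
      constructor <;> intro e
      · calc a⁻¹ * b * v = a⁻¹ * (b * v * b⁻¹) * b := by group
          _ = a⁻¹ * (a * v * a⁻¹) * b := by rw [e]
          _ = _ := by group
      · calc a * v * a⁻¹ = a * (v * (a⁻¹ * b)) * b⁻¹ := by group
          _ = a * (a⁻¹ * b * v) * b⁻¹ := by rw [e]
          _ = _ := by group
    have := Nat.card_le_card_of_injective
      (Quotient.lift (s := QuotientGroup.leftRel (centralizer ({v} : Set ↥(P : Subgroup G)))) ψ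
        fun a b hab => (hfac a b).2 (QuotientGroup.leftRel_apply.1 hab))
      (fun x y => by
        induction x using Quotient.ind with | _ a => ?_
        induction y using Quotient.ind with | _ b => ?_
        exact fun e => Quotient.sound (QuotientGroup.leftRel_apply.2 ((hfac a b).1 e)))
    have h' : (centralizer ({v} : Set ↥(P : Subgroup G))).index ≤ Nat.card (fP P).ker := this
    omega
  have h2 : Nat.card (fP P).ker ≤ 27 := by rw [ker_fP]; exact comm_le h
  refine ⟨le_antisymm h2 h1, ?_⟩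
  have hk := (fP P).ker.card_mul_index
  rw [le_antisymm h2 h1, h.cardP] at hk
  rw [show Nat.card (Abelianization ↥(P : Subgroup G)) = (fP P).ker.index by rw [ker_fP]; rfl]
  omega

/-- Each coset of the commutator subgroup met by the class is taken by nineteen cosets of `P`. -/
theorem count (h : Data u P) {v : ↥(P : Subgroup G)} (hv : IsConj u v) [Fintype (G ⧸ (P : Subgroup G))]
    [DecidableEq (G ⧸ (P : Subgroup G))] [DecidableEq (Abelianization ↥(P : Subgroup G))] :
    ((Finset.univ.filter fun a : G ⧸ (P : Subgroup G) => u • a = a).filter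
      fun a => fv P (a.out⁻¹ * u * a.out) = fP P v).card = 19 := by
  classical
  set c := fP P v
  have hc : c ≠ 1 := fP_ne_one h hv
  set T := (Finset.univ.filter fun a : G ⧸ (P : Subgroup G) => u • a = a).filter
      fun a => fv P (a.out⁻¹ * u * a.out) = c with hT
  -- the elements moving `u` into the coset of `v`
  let X := {g : G // fv P (g⁻¹ * u * g) = c}
  have key : ∀ (g : G) (p : ↥(P : Subgroup G)),
      (fv P ((g * p)⁻¹ * u * (g * p)) = c ↔ fv P (g⁻¹ * u * g) = c) := by
    intro g p
    have e : ((g * p)⁻¹ * u * (g * p)) = (p : G)⁻¹ * (g⁻¹ * u * g) * p := by group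
    by_cases hg : g⁻¹ * u * g ∈ (P : Subgroup G)
    · have hg' : (g * p)⁻¹ * u * (g * p) ∈ (P : Subgroup G) := by
        rw [e]; exact mul_mem (mul_mem (inv_mem p.2) hg) p.2
      rw [fv_of_mem hg, fv_of_mem hg',
        show (⟨_, hg'⟩ : ↥(P : Subgroup G)) = p⁻¹ * ⟨_, hg⟩ * p from Subtype.ext e, map_mul, map_mul,
        map_inv, mul_right_comm, inv_mul_cancel, one_mul]
    · have hg' : (g * p)⁻¹ * u * (g * p) ∉ (P : Subgroup G) := fun h' => hg (by
        have := mul_mem (mul_mem p.2 h') (inv_mem p.2)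
        rw [e] at this
        convert this using 1
        group)
      unfold fv; rw [dif_neg hg, dif_neg hg']
  have hmemT : ∀ a : G ⧸ (P : Subgroup G), a ∈ T ↔ fv P (a.out⁻¹ * u * a.out) = c := by
    intro a
    simp only [hT, Finset.mem_filter, Finset.mem_univ, true_and]
    refine ⟨And.right, fun e => ⟨?_, e⟩⟩
    have hm := mem_of_fv_ne (P := P) (g := a.out⁻¹ * u * a.out) (by rw [e]; exact hc)
    conv_lhs => rw [← QuotientGroup.out_eq' a]
    conv_rhs => rw [← QuotientGroup.out_eq' a]
    refine (QuotientGroup.eq.2 ?_).symm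
    simpa [mul_assoc] using hm
  have e1 : X ≃ {a // a ∈ T} × ↥(P : Subgroup G) :=
    { toFun := fun g =>
        (⟨(g.1 : G ⧸ (P : Subgroup G)), (hmemT _).2 (by
            obtain ⟨p, hp⟩ := QuotientGroup.mk_out_eq_mul (P : Subgroup G) g.1
            rw [hp]; exact (key g.1 p).2 g.2)⟩,
          ⟨(g.1 : G ⧸ (P : Subgroup G)).out⁻¹ * g.1, QuotientGroup.eq.1 (QuotientGroup.out_eq' _)⟩)
      invFun := fun ap => ⟨ap.1.1.out * ap.2, (key _ ap.2).2 ((hmemT _).1 ap.1.2)⟩
      left_inv := fun g => by simp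
      right_inv := fun ap => by
        have he : ((ap.1.1.out * ap.2 : G) : G ⧸ (P : Subgroup G)) = ap.1.1 := by
          rw [QuotientGroup.mk_mul_of_mem _ ap.2.2]; exact QuotientGroup.out_eq' _
        refine Prod.ext (Subtype.ext he) (Subtype.ext ?_)
        show ((ap.1.1.out * ap.2 : G) : G ⧸ (P : Subgroup G)).out⁻¹ * (ap.1.1.out * ap.2) = ap.2
        rw [he]; group }
  have hk : ∀ w : {w : ↥(P : Subgroup G) // fP P w = c}, ∃ k : G, k⁻¹ * u * k = (w.1 : G) := by
    intro w
    obtain ⟨x, hx⟩ := coset_conj h hv w.2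
    obtain ⟨k, hk⟩ := isConj_iff.1 (hv.trans (isConj_iff.2 ⟨(x : G), congrArg Subtype.val hx⟩))
    exact ⟨k⁻¹, by simpa using hk⟩
  choose k hk using hk
  let wOf : X → {w : ↥(P : Subgroup G) // fP P w = c} := fun g =>
    ⟨⟨g.1⁻¹ * u * g.1, mem_of_fv_ne (by rw [g.2]; exact hc)⟩, by rw [← fv_of_mem]; exact g.2⟩
  have e2 : X ≃ {w : ↥(P : Subgroup G) // fP P w = c} × centralizer ({u} : Set G) :=
    { toFun := fun g => (wOf g, ⟨g.1 * (k (wOf g))⁻¹, mem_centralizer_singleton_iff.2 (by
        have e : (k (wOf g))⁻¹ * u * k (wOf g) = g.1⁻¹ * u * g.1 := hk (wOf g)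
        calc g.1 * (k (wOf g))⁻¹ * u = g.1 * ((k (wOf g))⁻¹ * u * k (wOf g)) * (k (wOf g))⁻¹ := by group
          _ = g.1 * (g.1⁻¹ * u * g.1) * (k (wOf g))⁻¹ := by rw [e]
          _ = _ := by group)⟩)
      invFun := fun wz => ⟨wz.2.1 * k wz.1, by
        have hz : wz.2.1⁻¹ * u * wz.2.1 = u := by
          rw [mul_assoc, ← mem_centralizer_singleton_iff.1 wz.2.2]; group
        rw [show (wz.2.1 * k wz.1)⁻¹ * u * (wz.2.1 * k wz.1) =
          (k wz.1)⁻¹ * (wz.2.1⁻¹ * u * wz.2.1) * k wz.1 by group, hz, hk, fv_of_mem wz.1.1.2]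
        exact wz.1.2⟩
      left_inv := fun g => by simp
      right_inv := fun wz => by
        have hw : ∀ hh, wOf ⟨wz.2.1 * k wz.1, hh⟩ = wz.1 := fun hh => by
          refine Subtype.ext (Subtype.ext ?_)
          have hz : wz.2.1⁻¹ * u * wz.2.1 = u := by
            rw [mul_assoc, ← mem_centralizer_singleton_iff.1 wz.2.2]; group
          show (wz.2.1 * k wz.1)⁻¹ * u * (wz.2.1 * k wz.1) = _
          rw [show (wz.2.1 * k wz.1)⁻¹ * u * (wz.2.1 * k wz.1) =
            (k wz.1)⁻¹ * (wz.2.1⁻¹ * u * wz.2.1) * k wz.1 by group, hz, hk]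
        refine Prod.ext (hw _) (Subtype.ext ?_)
        show wz.2.1 * k wz.1 * (k (wOf _))⁻¹ = wz.2.1
        rw [hw]; group }
  have hfib : Nat.card {w : ↥(P : Subgroup G) // fP P w = c} = 27 := by
    rw [← (card_commutator h hv).1]
    exact Nat.card_congr
      { toFun := fun w => ⟨w.1 * v⁻¹, by rw [MonoidHom.mem_ker, map_mul, map_inv, w.2, mul_inv_cancel]⟩
        invFun := fun k => ⟨k.1 * v, by rw [map_mul, MonoidHom.mem_ker.1 k.2, one_mul]⟩
        left_inv := fun w => by simp
        right_inv := fun k => by simp }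
  have := (Nat.card_congr e1).symm.trans (Nat.card_congr e2)
  rw [Nat.card_prod, Nat.card_prod, hfib, h.cent, h.cardP, Nat.card_eq_fintype_card,
    Fintype.card_coe] at this
  omega

/-- There is no such element in a perfect group. -/
theorem not_data (hG : Nat.card G = 50232960) (hperf : commutator G = ⊤) (hu : u ∈ (P : Subgroup G))
    (h : Data u P) : False := by
  classical
  haveI := Fintype.ofFinite (G ⧸ (P : Subgroup G))
  set v : ↥(P : Subgroup G) := ⟨u, hu⟩
  have hv : IsConj u v := IsConj.refl u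
  obtain ⟨r, hr⟩ := exists_involution h hG hv
  have hmove : ∀ w : ↥(P : Subgroup G), IsConj u w →
      sigA P r (fP P w) ≠ fP P w ∧ sigA P r (fP P w) ≠ (fP P w)⁻¹ := fun w hw => by
    rw [sigA_f]
    exact ⟨moves h hw Nat.prime_two (by norm_num) (by norm_num) hr, fP_inv_ne h hw (sig_conj hw r)⟩
  set a := fP P v
  set b := fP P (sig P r v) with hb
  have hba : sigA P r a = b := sigA_f r v
  have hab : sigA P r b = a := by
    rw [hb, sigA_f, sig_mul, show r * r = 1 by rw [← pow_two, ← hr, pow_orderOf_eq_one]]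
    exact congrArg (fP P) (Subtype.ext (by simp [sig]))
  have ha3 : a ^ 3 = 1 := by rw [← map_pow, cube h hv, map_one]
  have hb3 : b ^ 3 = 1 := by rw [hb, ← map_pow, cube h (sig_conj hv r), map_one]
  have hbn : b ∉ zpowers a := by
    intro hmem
    obtain ⟨i, hi⟩ := hmem
    have hi' : a ^ (i % 3) = b := by
      rw [← hi]; exact (zpow_eq_zpow_emod' i ha3).symm
    have h1 := hmove v hv
    rw [sigA_f, ← hb] at h1
    have h0 : i % 3 = 0 ∨ i % 3 = 1 ∨ i % 3 = 2 := by omega
    rcases h0 with e | e | e <;> rw [e] at hi'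
    · exact fP_ne_one h (sig_conj hv r) (by rw [← hb, ← hi', zpow_zero])
    · exact h1.1 (by rw [← hi', zpow_one])
    · refine h1.2 (hi'.symm.trans (eq_inv_of_mul_eq_one_left ?_))
      rw [show (2 : ℤ) = ((2 : ℕ) : ℤ) from rfl, zpow_natCast, ← pow_succ, ha3]
  have hS : ∀ w : ↥(P : Subgroup G), IsConj u w → fP P w = a ∨ fP P w = b := by
    intro w hw
    haveI := Fact.mk Nat.prime_three
    have hcard : Nat.card (Abelianization ↥(P : Subgroup G) ⧸ zpowers a) = 3 := by
      have h1 := (zpowers a).card_mul_index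
      rw [Nat.card_zpowers, orderOf_eq_prime ha3 (fP_ne_one h hv), (card_commutator h hv).2] at h1
      rw [← index_eq_card]; omega
    obtain ⟨j, hj⟩ := mem_zpowers_of_prime_card hcard (g := (b : _ ⧸ zpowers a))
      (g' := (fP P w : _ ⧸ zpowers a)) (fun e => hbn ((QuotientGroup.eq_one_iff b).1 e))
    obtain ⟨i, hi⟩ := QuotientGroup.eq.1 (show ((b ^ j : _) : _ ⧸ zpowers a) = (fP P w : _) from hj)
    have hw' : fP P w = a ^ (i % 3).toNat * b ^ (j % 3).toNat := by
      rw [← zpow_natCast, ← zpow_natCast, Int.toNat_of_nonneg (Int.emod_nonneg _ (by norm_num)),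
        Int.toNat_of_nonneg (Int.emod_nonneg _ (by norm_num))]
      rw [show a ^ (i % 3) = a ^ i from (zpow_eq_zpow_emod' i ha3).symm,
        show b ^ (j % 3) = b ^ j from (zpow_eq_zpow_emod' j hb3).symm, show a ^ i = (b ^ j)⁻¹ * fP P w from hi]
      rw [mul_comm, mul_inv_cancel_left]
    have hm := hmove w hw
    have hne := fP_ne_one h hw
    have hn1 := fP_inv_ne h hv hw
    have hn2 := fP_inv_ne h (sig_conj hv r) hw
    have hi3 : (i % 3).toNat < 3 := by omega
    have hj3 : (j % 3).toNat < 3 := by omega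
    have a2 : a ^ 2 = a⁻¹ := eq_inv_of_mul_eq_one_left (by rw [← pow_succ, ha3])
    have b2 : b ^ 2 = b⁻¹ := eq_inv_of_mul_eq_one_left (by rw [← pow_succ, hb3])
    have i0 : (i % 3).toNat = 0 ∨ (i % 3).toNat = 1 ∨ (i % 3).toNat = 2 := by omega
    have j0 : (j % 3).toNat = 0 ∨ (j % 3).toNat = 1 ∨ (j % 3).toNat = 2 := by omega
    rcases i0 with ei | ei | ei <;> rcases j0 with ej | ej | ej <;>
      rw [ei, ej] at hw' <;> simp only [pow_zero, pow_one, one_mul, mul_one, a2, b2] at hw'
    · exact absurd hw' hne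
    · exact Or.inr hw'
    · exact absurd hw' hn2
    · exact Or.inl hw'
    · exact absurd (by rw [hw', map_mul, hba, hab, mul_comm]) hm.1
    · exact absurd (by rw [hw', map_mul, map_inv, hba, hab]; simp [mul_comm]) hm.2
    · exact absurd hw' hn1
    · exact absurd (by rw [hw', map_mul, map_inv, hba, hab]; simp [mul_comm]) hm.2
    · exact absurd (by rw [hw', map_mul, map_inv, map_inv, hba, hab, mul_comm]) hm.1
  -- the transfer
  set T := Finset.univ.filter fun a : G ⧸ (P : Subgroup G) => u • a = a with hT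
  have hval : ∀ x ∈ T, fv P (x.out⁻¹ * u * x.out) = a ∨ fv P (x.out⁻¹ * u * x.out) = b := by
    intro x hx
    have hfix : u • x = x := (Finset.mem_filter.1 hx).2
    have hm : x.out⁻¹ * u * x.out ∈ (P : Subgroup G) := by
      have e : ((u * x.out : G) : G ⧸ (P : Subgroup G)) = (x.out : G ⧸ (P : Subgroup G)) := by
        rw [QuotientGroup.out_eq']
        conv_rhs => rw [← hfix, ← QuotientGroup.out_eq' x]
        rfl
      simpa [mul_assoc] using QuotientGroup.eq.1 e.symm
    rw [fv_of_mem hm]
    exact hS _ (isConj_iff.2 ⟨x.out⁻¹, by simp⟩)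
  have htr := transfer_prime (P : Subgroup G) (fP P) Nat.prime_three (h.ord ▸ pow_orderOf_eq_one u)
    (fv P) (fun g hg => fv_of_mem hg)
  have h0 : MonoidHom.transfer (fP P) u = 1 := by
    have hu' : u ∈ (MonoidHom.transfer (fP P)).ker := by
      apply Abelianization.commutator_subset_ker
      rw [hperf]; trivial
    exact hu'
  have hne : a ≠ b := fun e => hbn (e ▸ mem_zpowers a)
  have hprod : ∏ x ∈ T, fv P (x.out⁻¹ * u * x.out) = a ^ 19 * b ^ 19 := by
    rw [← Finset.prod_filter_mul_prod_filter_not T (fun x => fv P (x.out⁻¹ * u * x.out) = a)]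
    congr 1
    · rw [Finset.prod_congr rfl (g := fun _ => a) (fun x hx => (Finset.mem_filter.1 hx).2),
        Finset.prod_const, count h hv]
    · have hco : (T.filter fun x => ¬ fv P (x.out⁻¹ * u * x.out) = a) =
          T.filter fun x => fv P (x.out⁻¹ * u * x.out) = b := by
        refine Finset.filter_congr fun x hx => ⟨fun hn => (hval x hx).resolve_left hn, fun e e' => ?_⟩
        exact hne (e'.symm.trans e)
      rw [hco, Finset.prod_congr rfl (g := fun _ => b) (fun x hx => (Finset.mem_filter.1 hx).2),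
        Finset.prod_const, hb, count h (sig_conj hv r)]
  rw [htr, hprod, pow_eq_pow_mod 19 ha3, pow_eq_pow_mod 19 hb3] at h0
  simp only [show 19 % 3 = 1 from rfl, pow_one] at h0
  exact hbn (by rw [eq_inv_of_mul_eq_one_right h0]; exact inv_mem (mem_zpowers a))

end CfsgLib.Sporadic.J3Type.Three
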