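import Cfsg.Agent.Lib.Sporadic.J3Type.Local
import Cfsg.Agent.Lib.Sporadic.J3Type.ThreeTransfer

/-!
# The Sylow subgroups for 17 and 19 in a group of J₃ type of order 50232960
-/

set_option autoImplicit false
set_option linter.style.haveILetI false
set_option linter.unusedSectionVars false

namespace CfsgLib.Sporadic.J3Type

open Subgroup
open scoped commutatorElement

variable {G : Type*} [Group G] [Finite G] {t : G} {E A : Subgroup ↥(centralizer ({t} : Set G))}

theorem nonabelian (h : Hyp t E A) : ¬ ∀ a b : G, a * b = b * a := by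
  intro hab
  obtain ⟨z, -, hz1, -, -, -, x, -, y, -, hxy⟩ := h.exists_z
  apply hz1
  rw [← hxy, commutatorElement_eq_one_iff_mul_comm]
  exact Subtype.ext (hab _ _)

theorem commutator_eq_top [IsSimpleGroup G] (h : Hyp t E A) : commutator G = ⊤ := by
  rcases (inferInstance : (commutator G).Normal).eq_bot_or_eq_top with e | e
  · exact absurd (fun a b => by
      rw [← commutatorElement_eq_one_iff_mul_comm, ← mem_bot, ← e]
      exact commutator_mem_commutator (mem_top _) (mem_top _)) (nonabelian h)
  · exact e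

/-- The arithmetic of a Sylow normaliser. -/
theorem sylow_data [IsSimpleGroup G] (h : Hyp t E A) (hG : Nat.card G = 50232960) {q m : ℕ}
    [Fact q.Prime] (hq : ¬ q ∣ 1920) (hm : 50232960 = q * (2 ^ 7 * m)) (hqm : ¬ q ∣ 2 ^ 7 * m)
    (X : Sylow q G) :
    Nat.card X = q ∧ IsCyclic ↥(X : Subgroup G) ∧ ∃ c e : ℕ,
      Nat.card (centralizer ((X : Subgroup G) : Set G)) = q * c ∧
      Nat.card (normalizer ((X : Subgroup G) : Set G)) = q * (c * e) ∧
      Odd c ∧ c ∣ m ∧ e ∣ q - 1 ∧ e ≠ 1 ∧ c * e % q = (2 ^ 7 * m) % q ∧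
      Nat.card (normalizer ((X : Subgroup G) : Set G)) ∣ q * (2 ^ 7 * m) := by
  have hqp : q.Prime := Fact.out
  have hX : Nat.card X = q := by
    have hm0 : 2 ^ 7 * m ≠ 0 := fun e => hqm (e ▸ dvd_zero q)
    rw [X.card_eq_multiplicity, hG, hm, Nat.factorization_def _ hqp, padicValNat.mul hqp.ne_zero hm0,
      padicValNat.self hqp.one_lt, padicValNat.eq_zero_of_not_dvd hqm, add_zero, pow_one]
  haveI hcyc : IsCyclic ↥(X : Subgroup G) := isCyclic_of_prime_card hX
  refine ⟨hX, hcyc, ?_⟩
  set C := centralizer ((X : Subgroup G) : Set G)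
  set N := normalizer ((X : Subgroup G) : Set G)
  have hXC : (X : Subgroup G) ≤ C := fun x hx => mem_centralizer_iff.2 fun y hy =>
    congrArg Subtype.val (IsCyclic.isMulCommutative.is_comm.comm (⟨y, hy⟩ : ↥(X : Subgroup G)) ⟨x, hx⟩)
  obtain ⟨c, hc⟩ : q ∣ Nat.card C := hX ▸ card_dvd_of_le hXC
  obtain ⟨g, hg⟩ := exists_prime_orderOf_dvd_card' (G := ↥(X : Subgroup G)) q (dvd_of_eq hX.symm)
  have hodd : Odd (Nat.card C) := by
    refine Odd.of_dvd_nat (h.odd_cent (x := (g : G)) (by rw [orderOf_submonoid]; exact hg) hq) ?_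
    exact card_dvd_of_le fun y hy => mem_centralizer_singleton_iff.2 (mem_centralizer_iff.1 hy g g.2).symm
  have hcodd : Odd c := (Nat.odd_mul.1 (hc ▸ hodd)).2
  have hcm : c ∣ m := by
    have h1 : q * c ∣ q * (2 ^ 7 * m) := by rw [← hc, ← hm, ← hG]; exact C.card_subgroup_dvd_card
    exact (hcodd.coprime_two_right.pow_right 7).dvd_of_dvd_mul_left ((mul_dvd_mul_iff_left hqp.ne_zero).1 h1)
  have hCN : C ≤ N := fun x hx => mem_normalizer_iff.2 fun y => by
    constructor
    · intro hy
      rwa [← mem_centralizer_iff.1 hx y hy, mul_inv_cancel_right]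
    · intro hy
      have := mem_centralizer_iff.1 hx _ hy
      rw [show x * y * x⁻¹ * x = x * y by group] at this
      have e := mul_left_cancel this
      rwa [e]
  set e := C.relIndex N
  have hNe : Nat.card N = q * (c * e) := by
    rw [← card_mul_index (C.subgroupOf N), Nat.card_congr (subgroupOfEquivOfLe hCN).toEquiv, hc,
      mul_assoc]
    rfl
  have he : e ∣ q - 1 := by
    have key := card_dvd_of_injective _ (QuotientGroup.kerLift_injective (X : Subgroup G).normalizerMonoidHom)
    rw [IsCyclic.card_mulAut, hX, Nat.totient_prime hqp, ← index_eq_card,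
      normalizerMonoidHom_ker] at key
    exact key
  have he1 : e ≠ 1 := by
    intro h1
    have hle : N ≤ C := relIndex_eq_one.1 h1
    have hcompl := MonoidHom.ker_transferSylow_isComplement' X hle
    rcases (inferInstance : (MonoidHom.transferSylow X hle).ker.Normal).eq_bot_or_eq_top with e0 | e0
    · rw [e0] at hcompl
      have := hcompl.card_mul_card
      rw [card_bot, one_mul, hG, hX] at this
      rw [this] at hm
      have : 2 ^ 7 * m = 1 := by
        have := hm.symm
        nlinarith [hqp.two_le]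
      omega
    · rw [e0] at hcompl
      have := hcompl.card_mul_card
      rw [card_top, hX, hG] at this
      have := hqp.two_le
      omega
  refine ⟨c, e, hc, hNe, hcodd, hcm, he, he1, ?_, by rw [← hm, ← hG]; exact N.card_subgroup_dvd_card⟩
  have hn : Nat.card (Sylow q G) % q = 1 := by
    rw [card_sylow_modEq_one q G, Nat.one_mod_eq_one.2 hqp.ne_one]
  have hmul : Nat.card N * N.index = q * (2 ^ 7 * m) := by rw [N.card_mul_index, hG, hm]
  rw [hNe, mul_assoc] at hmul
  have h2 := Nat.eq_of_mul_eq_mul_left hqp.pos hmul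
  rw [← h2, Nat.mul_mod (c * e) N.index]
  rw [show N.index % q = 1 by rw [← hn, X.card_eq_index_normalizer]; rfl, mul_one, Nat.mod_mod]

theorem dec17 : ∀ a ∈ Nat.divisors 243, ∀ b ∈ Nat.divisors (5 * 19), ∀ e ∈ Nat.divisors 16,
    a * b * e % 17 = 8 → e = 1 ∨ (a * b = 1 ∧ e = 8) ∨ e = 16 ∨ (19 ∣ b ∧ 4 ∣ e) := by
  decide +kernel

theorem dec19 : ∀ a ∈ Nat.divisors 243, ∀ b ∈ Nat.divisors (5 * 17), ∀ e ∈ Nat.divisors 18,
    a * b * e % 19 = 9 → e = 1 ∨ (a * b = 1 ∧ e = 9) ∨ (a * b = 3 ∧ e = 3) ∨ 17 ∣ b := by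
  decide +kernel

theorem split_dvd {c k : ℕ} (hk : k ≠ 0) (h : c ∣ 243 * k) :
    ∃ a b, a ∈ Nat.divisors 243 ∧ b ∈ Nat.divisors k ∧ c = a * b := by
  obtain ⟨a, b, ha, hb, e⟩ := Nat.dvd_mul.1 h
  exact ⟨a, b, Nat.mem_divisors.2 ⟨ha, by norm_num⟩, Nat.mem_divisors.2 ⟨hb, hk⟩, e.symm⟩

/-- A Sylow 17-subgroup is self-centralising and its normaliser has order 136. -/
theorem seventeen [IsSimpleGroup G] (h : Hyp t E A) (hG : Nat.card G = 50232960)
    [Fact (Nat.Prime 17)] (X : Sylow 17 G) :
    Nat.card X = 17 ∧ IsCyclic ↥(X : Subgroup G) ∧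
      Nat.card (centralizer ((X : Subgroup G) : Set G)) = 17 ∧
      Nat.card (normalizer ((X : Subgroup G) : Set G)) = 17 * 8 := by
  obtain ⟨hX, hcyc, c, e, hC, hN, hodd, hcm, he, he1, hmod, -⟩ :=
    sylow_data h hG (q := 17) (m := 243 * (5 * 19)) (by norm_num) (by norm_num) (by norm_num) X
  refine ⟨hX, hcyc, ?_⟩
  obtain ⟨a, b, ha, hb, rfl⟩ := split_dvd (by norm_num) hcm
  rcases dec17 a ha b hb e (Nat.mem_divisors.2 ⟨he, by norm_num⟩) (by simpa using hmod) with
    h1 | ⟨h1, h2⟩ | h1 | ⟨h1, h2⟩
  · exact absurd h1 he1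
  · rw [hC, hN, h1, h2]; norm_num
  · exfalso
    haveI := Fact.mk Nat.prime_two
    set C := centralizer ((X : Subgroup G) : Set G)
    set N := normalizer ((X : Subgroup G) : Set G)
    obtain ⟨T, hT⟩ := Sylow.exists_subgroup_card_pow_prime 2 (G := N) (n := 4)
      (by rw [hN, h1]; exact Dvd.intro (17 * (a * b)) (by ring))
    -- `T` embeds in the automorphisms of `X`, a cyclic group
    let φ := ((X : Subgroup G).normalizerMonoidHom).comp T.subtype
    have hker : φ.ker = ⊥ := by
      rw [eq_bot_iff]
      intro y hy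
      have hy' : ((y : N) : G) ∈ C := by
        have h0 : (y : N) ∈ ((X : Subgroup G).normalizerMonoidHom).ker := hy
        rw [normalizerMonoidHom_ker] at h0
        exact h0
      have hd := orderOf_dvd_natCard (⟨_, hy'⟩ : C)
      have hd2 := orderOf_dvd_natCard y
      rw [Subgroup.orderOf_mk, orderOf_submonoid, orderOf_submonoid, hC] at hd
      rw [hT] at hd2
      have hco : Nat.Coprime (17 * (a * b)) (2 ^ 4) :=
        ((show Odd 17 by decide).mul hodd).coprime_two_right.pow_right 4
      rw [mem_bot, ← orderOf_eq_one_iff]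
      exact Nat.dvd_one.1 (hco ▸ Nat.dvd_gcd hd hd2)
    haveI := hcyc
    haveI : IsCyclic (MulAut ↥(X : Subgroup G)) := by
      haveI : IsCyclic (ZMod 17)ˣ := ZMod.isCyclic_units_prime (by norm_num)
      exact isCyclic_of_injective
        ((MulEquiv.cast (M := fun n => (ZMod n)ˣ) hX).toMonoidHom.comp
          (IsCyclic.mulAutMulEquiv ↥(X : Subgroup G)).toMonoidHom)
        ((MulEquiv.cast (M := fun n => (ZMod n)ˣ) hX).injective.comp
          (IsCyclic.mulAutMulEquiv ↥(X : Subgroup G)).injective)
    haveI : IsCyclic T := isCyclic_of_injective φ ((MonoidHom.ker_eq_bot_iff φ).1 hker)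
    obtain ⟨y, hy⟩ := IsCyclic.exists_ofOrder_eq_natCard (α := T)
    rw [hT] at hy
    exact h.no_sixteen ((y : N) : G) (by rw [orderOf_submonoid, orderOf_submonoid]; simpa using hy)
  · exfalso
    haveI := Fact.mk Nat.prime_two
    haveI : Fact (Nat.Prime 19) := ⟨by norm_num⟩
    set C := centralizer ((X : Subgroup G) : Set G)
    set N := normalizer ((X : Subgroup G) : Set G)
    haveI hCn : (C.subgroupOf N).Normal := normal_subgroupOf_centralizer_normalizer _
    obtain ⟨Y⟩ := (inferInstance : Nonempty (Sylow 19 ↥(C.subgroupOf N)))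
    set Y' := (Y : Subgroup ↥(C.subgroupOf N)).map (C.subgroupOf N).subtype
    have hY : Nat.card Y' = 19 := by
      have hCc : Nat.card ↥(C.subgroupOf N) = 17 * (a * b) := by
        rw [← hC]
        exact Nat.card_congr (subgroupOfEquivOfLe fun x hx => centralizer_le_normalizer _ hx).toEquiv
      rw [card_map_of_injective (C.subgroupOf N).subtype_injective, Y.card_eq_multiplicity, hCc]
      have hb' : b = 19 ∨ b = 5 * 19 := by
        have : ∀ b ∈ Nat.divisors (5 * 19), 19 ∣ b → b = 19 ∨ b = 5 * 19 := by decide +kernel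
        exact this b hb h1
      have ha3 : ¬ 19 ∣ a := by
        have : ∀ a ∈ Nat.divisors 243, ¬ 19 ∣ a := by decide +kernel
        exact this a ha
      have ha0 : a ≠ 0 := fun e0 => ha3 (e0 ▸ dvd_zero _)
      rcases hb' with rfl | rfl
      · rw [show 17 * (a * 19) = 19 * (17 * a) by ring, Nat.factorization_def _ Fact.out,
          padicValNat.mul (by norm_num) (by positivity), padicValNat.self (by norm_num),
          padicValNat.eq_zero_of_not_dvd (fun hd => ha3 ((Nat.Coprime.dvd_of_dvd_mul_left (by norm_num) hd)))]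
        norm_num
      · rw [show 17 * (a * (5 * 19)) = 19 * ((17 * 5) * a) by ring, Nat.factorization_def _ Fact.out,
          padicValNat.mul (by norm_num) (by positivity), padicValNat.self (by norm_num),
          padicValNat.eq_zero_of_not_dvd (fun hd => ha3 ((Nat.Coprime.dvd_of_dvd_mul_left (by norm_num) hd)))]
        norm_num
    have hfr := Sylow.normalizer_sup_eq_top Y
    set M := normalizer (Y' : Set N)
    have hMe : e ∣ Nat.card M := by
      have h4 : (C.subgroupOf N).index = e := by
        have := (C.subgroupOf N).card_mul_index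
        rw [Nat.card_congr (subgroupOfEquivOfLe fun x hx => centralizer_le_normalizer _ hx).toEquiv, hC, hN,
          mul_assoc] at this
        have h5 := Nat.eq_of_mul_eq_mul_left (by norm_num) this
        exact Nat.eq_of_mul_eq_mul_left (Nat.pos_of_ne_zero fun e0 => by rw [e0] at hodd; simp at hodd) h5
      have hr : (C.subgroupOf N).relIndex M = (C.subgroupOf N).index := by
        rw [← relIndex_sup_right, sup_comm, sup_comm (C.subgroupOf N), show M ⊔ C.subgroupOf N = ⊤ from hfr,
          relIndex_top_right]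
      have := relIndex_dvd_card (C.subgroupOf N) M
      rwa [hr, h4] at this
    obtain ⟨T, hT⟩ := Sylow.exists_subgroup_card_pow_prime 2 (G := M) (n := 2) (h2.trans hMe)
    haveI : IsCyclic Y' := isCyclic_of_prime_card hY
    let φ := Y'.normalizerMonoidHom.comp T.subtype
    have hker : φ.ker = ⊥ := by
      rw [eq_bot_iff]
      intro y hy
      have hy' : (y : M) ∈ Y'.normalizerMonoidHom.ker := hy
      rw [normalizerMonoidHom_ker] at hy'
      obtain ⟨g, hg⟩ := exists_prime_orderOf_dvd_card' (G := Y') 19 (dvd_of_eq hY.symm)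
      have hm : (((y : M) : N) : G) ∈ centralizer ({((g : N) : G)} : Set G) := by
        refine mem_centralizer_singleton_iff.2 ?_
        exact congrArg Subtype.val (mem_centralizer_iff.1 hy' (g : N) g.2).symm
      have hoddg := h.odd_cent (x := ((g : N) : G)) (q := 19)
        (by rw [orderOf_submonoid, orderOf_submonoid]; exact hg) (by norm_num)
      have hd := orderOf_dvd_natCard (⟨_, hm⟩ : centralizer ({((g : N) : G)} : Set G))
      have hd2 := orderOf_dvd_natCard y
      rw [Subgroup.orderOf_mk, orderOf_submonoid, orderOf_submonoid, orderOf_submonoid] at hd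
      rw [hT] at hd2
      rw [mem_bot, ← orderOf_eq_one_iff]
      exact Nat.dvd_one.1 ((hoddg.coprime_two_right.pow_right 2) ▸ Nat.dvd_gcd hd hd2)
    have := card_dvd_of_injective φ ((MonoidHom.ker_eq_bot_iff φ).1 hker)
    rw [hT, IsCyclic.card_mulAut, hY, Nat.totient_prime (by norm_num)] at this
    norm_num at this

/-- A Sylow 19-subgroup is self-centralising and its normaliser has order 171. -/
theorem nineteen [IsSimpleGroup G] (h : Hyp t E A) (hG : Nat.card G = 50232960)
    [Fact (Nat.Prime 19)] (X : Sylow 19 G) :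
    Nat.card X = 19 ∧ IsCyclic ↥(X : Subgroup G) ∧
      Nat.card (centralizer ((X : Subgroup G) : Set G)) = 19 ∧
      Nat.card (normalizer ((X : Subgroup G) : Set G)) = 19 * 9 := by
  obtain ⟨hX, hcyc, c, e, hC, hN, hodd, hcm, he, he1, hmod, -⟩ :=
    sylow_data h hG (q := 19) (m := 243 * (5 * 17)) (by norm_num) (by norm_num) (by norm_num) X
  refine ⟨hX, hcyc, ?_⟩
  haveI : Fact (Nat.Prime 17) := ⟨by norm_num⟩
  obtain ⟨a, b, ha, hb, rfl⟩ := split_dvd (by norm_num) hcm
  set C := centralizer ((X : Subgroup G) : Set G)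
  set N := normalizer ((X : Subgroup G) : Set G)
  -- elements of order 17 commute with no element of order 3 or 19
  have h17 : ∀ x y : G, orderOf x = 17 → (orderOf y = 3 ∨ orderOf y = 19) → x * y ≠ y * x := by
    intro x y hx hy hxy
    obtain ⟨P, hP⟩ := (IsPGroup.of_card (n := 1) (show Nat.card (zpowers x) = 17 ^ 1 by
      rw [Nat.card_zpowers, hx, pow_one])).exists_le_sylow
    obtain ⟨hP17, -, hCP, -⟩ := seventeen h hG P
    have hPx : zpowers x = (P : Subgroup G) :=
      eq_of_le_of_card_ge hP (by rw [hP17, Nat.card_zpowers, hx])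
    have hy' : y ∈ centralizer ((P : Subgroup G) : Set G) := by
      rw [← hPx]
      refine mem_centralizer_iff.2 ?_
      rintro _ ⟨i, rfl⟩
      exact ((show Commute x y from hxy).zpow_left i).eq
    have := orderOf_dvd_natCard (⟨y, hy'⟩ : centralizer ((P : Subgroup G) : Set G))
    rw [Subgroup.orderOf_mk, hCP] at this
    rcases hy with e | e <;> rw [e] at this <;> norm_num at this
  rcases dec19 a ha b hb e (Nat.mem_divisors.2 ⟨he, by norm_num⟩) (by simpa using hmod) with
    h1 | ⟨h1, h2⟩ | ⟨h1, h2⟩ | h1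
  · exact absurd h1 he1
  · rw [hC, hN, h1, h2]; norm_num
  · exfalso
    rw [h1] at hC hN
    rw [h2] at hN
    haveI := Fact.mk Nat.prime_two
    haveI := Fact.mk Nat.prime_three
    obtain ⟨u', hu'⟩ := exists_prime_orderOf_dvd_card' (G := C) 3 (by rw [hC]; norm_num)
    set u : G := (u' : G)
    have hu : orderOf u = 3 := by rw [orderOf_submonoid]; exact hu'
    obtain ⟨x', hx'⟩ := exists_prime_orderOf_dvd_card' (G := ↥(X : Subgroup G)) 19 (dvd_of_eq hX.symm)
    -- `C` is abelian, so its subgroup of order three is normal in `N`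
    have habel : ∀ p q : C, p * q = q * p := by
      haveI := hcyc
      let XC := (X : Subgroup G).subgroupOf C
      have hXC : (X : Subgroup G) ≤ C := fun z hz => mem_centralizer_iff.2 fun w hw =>
        congrArg Subtype.val (IsCyclic.isMulCommutative.is_comm.comm (⟨w, hw⟩ : ↥(X : Subgroup G)) ⟨z, hz⟩)
      haveI : XC.Normal := ⟨fun n hn g => by
        have e1 := mem_centralizer_iff.1 g.2 n hn
        show ((g * n * g⁻¹ : C) : G) ∈ (X : Subgroup G)
        rw [Subgroup.coe_mul, Subgroup.coe_mul, ← e1, Subgroup.coe_inv, mul_inv_cancel_right]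
        exact hn⟩
      have hidx : Nat.card (C ⧸ XC) = 3 := by
        have := XC.card_mul_index
        rw [Nat.card_congr (subgroupOfEquivOfLe hXC).toEquiv, hX, hC] at this
        rw [← index_eq_card]; omega
      haveI : IsCyclic (C ⧸ XC) := isCyclic_of_prime_card hidx
      have hab := MonoidHom.isMulCommutative_of_isCyclic_of_ker_le_center (QuotientGroup.mk' XC) (by
        rw [QuotientGroup.ker_mk']
        intro n hn
        refine mem_center_iff.2 fun g => Subtype.ext ?_
        exact (mem_centralizer_iff.1 g.2 n hn).symm)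
      exact fun p q => hab.is_comm.comm p q
    have hNu : ∀ g ∈ N, g * u * g⁻¹ = u := by
      intro g hg
      have hzC : ∀ g ∈ N, g * u * g⁻¹ ∈ zpowers u := by
        intro g hg
        have hmC : g * u * g⁻¹ ∈ C := mem_centralizer_iff.2 fun w hw => by
          have hw' : g⁻¹ * w * g ∈ (X : Subgroup G) := by
            have := (mem_normalizer_iff.1 (inv_mem hg) w).1 hw
            simpa using this
          have e1 := mem_centralizer_iff.1 u'.2 _ hw'
          calc w * (g * u * g⁻¹) = g * (g⁻¹ * w * g * u) * g⁻¹ := by group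
            _ = g * (u * (g⁻¹ * w * g)) * g⁻¹ := by rw [e1]
            _ = _ := by group
        letI : CommGroup C := { (inferInstance : Group C) with mul_comm := habel }
        have h3 : ((⟨_, hmC⟩ : C)) ∈ zpowers u' := by
          have hi19 : Nat.card (C ⧸ zpowers u') = 19 := by
            have := (zpowers u').card_mul_index
            rw [Nat.card_zpowers, hu', hC] at this
            rw [← index_eq_card]; omega
          have e3 : ((⟨_, hmC⟩ : C) : C ⧸ zpowers u') ^ 3 = 1 := by
            rw [← QuotientGroup.mk_pow]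
            refine (QuotientGroup.eq_one_iff _).2 ?_
            have : (⟨_, hmC⟩ : C) ^ 3 = 1 := Subtype.ext (by
              show (g * u * g⁻¹) ^ 3 = 1
              rw [conj_pow, ← hu, pow_orderOf_eq_one]; simp)
            rw [this]; exact one_mem _
          have e19 : ((⟨_, hmC⟩ : C) : C ⧸ zpowers u') ^ 19 = 1 := hi19 ▸ pow_card_eq_one'
          have := pow_gcd_eq_one.2 ⟨e3, e19⟩
          exact (QuotientGroup.eq_one_iff _).1 (by simpa using this)
        obtain ⟨i, hi⟩ := h3
        exact ⟨i, by simpa using congrArg Subtype.val hi⟩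
      obtain ⟨i, hi⟩ := hzC g hg
      have h3 : u ^ 3 = 1 := hu ▸ pow_orderOf_eq_one u
      replace hi : u ^ (i % 3) = g * u * g⁻¹ := by rw [← hi]; exact (zpow_eq_zpow_emod' i h3).symm
      have h0 : i % 3 = 0 ∨ i % 3 = 1 ∨ i % 3 = 2 := by omega
      rcases h0 with e0 | e0 | e0 <;> rw [e0] at hi
      · rw [zpow_zero, eq_comm, conj_eq_one_iff] at hi
        rw [hi, orderOf_one] at hu; norm_num at hu
      · rw [zpow_one] at hi; exact hi.symm
      · exfalso
        rw [show (2 : ℤ) = ((2 : ℕ) : ℤ) from rfl, zpow_natCast] at hi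
        have hg2 : g ^ 2 * u * (g ^ 2)⁻¹ = u := by
          rw [show g ^ 2 * u * (g ^ 2)⁻¹ = g * (g * u * g⁻¹) * g⁻¹ by rw [pow_two]; group, ← hi, ← conj_pow, ← hi,
            ← pow_mul, show 2 * 2 = 3 + 1 from rfl, pow_succ, h3, one_mul]
        have h171 : g ^ 171 = 1 := by
          refine orderOf_dvd_iff_pow_eq_one.1 ?_
          have := orderOf_dvd_natCard (⟨g, hg⟩ : N)
          rwa [Subgroup.orderOf_mk, hN] at this
        have hg172 : g = (g ^ 2) ^ 86 := by
          rw [← pow_mul, show 2 * 86 = 171 + 1 from rfl, pow_succ, h171, one_mul]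
        have hc : Commute (g ^ 2) u := mul_inv_eq_iff_eq_mul.1 hg2
        have := (hc.pow_left 86).eq
        rw [← hg172] at this
        rw [this, mul_inv_cancel_right] at hi
        have : u = 1 := by
          have e2 : u * u = u := by rw [← pow_two]; exact hi
          exact mul_eq_left.1 e2
        rw [this, orderOf_one] at hu; norm_num at hu
    have hNC : N ≤ centralizer ({u} : Set G) := fun g hg =>
      mem_centralizer_singleton_iff.2 (mul_inv_eq_iff_eq_mul.1 (hNu g hg))
    set Z := centralizer ({u} : Set G)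
    have hXZ : (X : Subgroup G) ≤ Z := le_normalizer.trans hNC
    let XZ : Sylow 19 Z := X.subtype hXZ
    have hnorm : Nat.card (normalizer ((XZ : Subgroup Z) : Set Z)) = 171 := by
      have hN' : Nat.card (N.subgroupOf Z) = 171 := by
        rw [Nat.card_congr (subgroupOfEquivOfLe hNC).toEquiv, hN]
      rw [← hN', show normalizer ((XZ : Subgroup Z) : Set Z) = N.subgroupOf Z from
        (subgroupOf_normalizer_eq hXZ).symm]
    obtain ⟨n, hn⟩ : 171 ∣ Nat.card Z := by
      have := card_dvd_of_le hNC
      rwa [hN] at this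
    have hn1 : n % 19 = 1 := by
      have h1 := card_sylow_modEq_one 19 Z
      rw [XZ.card_eq_index_normalizer] at h1
      have h2 := (normalizer ((XZ : Subgroup Z) : Set Z)).card_mul_index
      rw [hnorm, hn] at h2
      rw [← Nat.eq_of_mul_eq_mul_left (by norm_num) h2]
      exact h1
    have hnG : n ∣ 17 * (2 ^ 7 * (27 * 5)) := by
      have := Z.card_subgroup_dvd_card
      rw [hn, hG, show 50232960 = 171 * (17 * (2 ^ 7 * (27 * 5))) from rfl] at this
      exact (mul_dvd_mul_iff_left (by norm_num : (171 : ℕ) ≠ 0)).1 this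
    have h17Z : ¬ 17 ∣ Nat.card Z := fun hd => by
      obtain ⟨v, hv⟩ := exists_prime_orderOf_dvd_card' 17 hd
      exact h17 v u (by rw [orderOf_submonoid]; exact hv) (Or.inl hu) (mem_centralizer_singleton_iff.1 v.2)
    have hn17 : ¬ 17 ∣ n := fun hd => h17Z (hn ▸ hd.mul_left 171)
    have hn2 : n ∣ 2 ^ 7 * 135 :=
      ((Nat.Prime.coprime_iff_not_dvd (by norm_num)).2 hn17).symm.dvd_of_dvd_mul_left hnG
    obtain ⟨p2, d, hp2, hd, hnd⟩ := Nat.dvd_mul.1 hn2
    obtain ⟨k, -, rfl⟩ := (Nat.dvd_prime_pow Nat.prime_two).1 hp2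
    have hdec : ∀ d ∈ Nat.divisors 135, (d % 19 = 1 → d = 1) ∧ 2 * d % 19 ≠ 1 ∧ 8 * d % 19 ≠ 1 := by
      decide +kernel
    obtain ⟨hd1, hd2, hd8⟩ := hdec d (Nat.mem_divisors.2 ⟨hd, by norm_num⟩)
    have hdodd : Odd d := Odd.of_dvd_nat (by decide) hd
    have hk : k = 0 ∨ k = 1 ∨ k = 3 := by
      by_contra hno
      push Not at hno
      have h2Z : 2 ∣ Nat.card Z := hn ▸ (hnd ▸ ((dvd_pow_self 2 hno.1).mul_right d)).mul_left 171
      -- an involution centralising `u`, central in a Sylow subgroup
      obtain ⟨S⟩ := (inferInstance : Nonempty (Sylow 2 Z))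
      have hScard : Nat.card S = 2 ^ k := by
        have hd0 : d ≠ 0 := fun e0 => by rw [e0] at hdodd; simp at hdodd
        rw [S.card_eq_multiplicity, hn, ← hnd, Nat.factorization_def _ Nat.prime_two,
          show 171 * (2 ^ k * d) = 2 ^ k * (171 * d) by ring, padicValNat.mul (by positivity) (by positivity),
          padicValNat.prime_pow, padicValNat.eq_zero_of_not_dvd (fun hh =>
            (Nat.not_even_iff_odd.2 ((show Odd 171 by decide).mul hdodd)) (even_iff_two_dvd.2 hh)), add_zero]
      haveI : Nontrivial ↥(S : Subgroup Z) := Finite.one_lt_card_iff_nontrivial.1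
        (hScard ▸ Nat.one_lt_two_pow hno.1)
      haveI := S.isPGroup'.center_nontrivial
      obtain ⟨i, hi⟩ := exists_prime_orderOf_dvd_card' (G := center ↥(S : Subgroup Z)) 2 (by
        obtain ⟨j, hj⟩ := two_pow_card (S.isPGroup'.to_subgroup (center ↥(S : Subgroup Z)))
        rw [hj]
        refine dvd_pow_self 2 fun e0 => ?_
        rw [e0, pow_zero] at hj
        exact absurd hj (Finite.one_lt_card).ne')
      set iG : G := (((i : ↥(S : Subgroup Z)) : Z) : G)
      have hiG : orderOf iG = 2 := by
        rw [orderOf_submonoid, orderOf_submonoid, orderOf_submonoid]; exact hi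
      obtain ⟨g, hg⟩ := isConj_iff.1 (h.one _ t hiG h.ord)
      have hu2 : g * u * g⁻¹ ∈ centralizer ({t} : Set G) := by
        refine mem_centralizer_singleton_iff.2 ?_
        have e1 : iG * u = u * iG := mem_centralizer_singleton_iff.1 ((i : ↥(S : Subgroup Z)) : Z).2
        rw [← hg]
        calc g * u * g⁻¹ * (g * iG * g⁻¹) = g * (u * iG) * g⁻¹ := by group
          _ = g * (iG * u) * g⁻¹ := by rw [e1]
          _ = _ := by group
      set w : ↥(centralizer ({t} : Set G)) := ⟨_, hu2⟩
      have hw : orderOf w = 3 := by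
        rw [← hu, ← orderOf_submonoid]
        exact orderOf_injective (MulAut.conj g).toMonoidHom (MulAut.conj g).injective u
      obtain ⟨r, mm, hr, hmm, hK⟩ := h.three_cent hw
      set K := centralizer ({w} : Set ↥(centralizer ({t} : Set G)))
      -- the Sylow subgroup maps into the centraliser of `w`
      have hle : 2 ^ k ∣ 2 ^ r * mm := by
        rw [← hK, ← hScard]
        refine card_dvd_of_injective
          ({ toFun := fun s => ⟨⟨g * (((s : ↥(S : Subgroup Z)) : Z) : G) * g⁻¹, ?_⟩, ?_⟩
             map_one' := ?_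
             map_mul' := ?_ } : ↥(S : Subgroup Z) →* K) ?_
        · refine mem_centralizer_singleton_iff.2 ?_
          have e1 : (((s : ↥(S : Subgroup Z)) : Z) : G) * iG = iG * ((s : Z) : G) :=
            congrArg (fun z : ↥(S : Subgroup Z) => ((z : Z) : G)) (mem_center_iff.1 i.2 s)
          rw [← hg]
          calc g * ((s : Z) : G) * g⁻¹ * (g * iG * g⁻¹) = g * (((s : Z) : G) * iG) * g⁻¹ := by group
            _ = g * (iG * ((s : Z) : G)) * g⁻¹ := by rw [e1]
            _ = _ := by group
        · refine mem_centralizer_singleton_iff.2 (Subtype.ext ?_)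
          have e1 : ((s : Z) : G) * u = u * ((s : Z) : G) := mem_centralizer_singleton_iff.1 (s : Z).2
          show g * ((s : Z) : G) * g⁻¹ * (g * u * g⁻¹) = g * u * g⁻¹ * (g * ((s : Z) : G) * g⁻¹)
          calc g * ((s : Z) : G) * g⁻¹ * (g * u * g⁻¹) = g * (((s : Z) : G) * u) * g⁻¹ := by group
            _ = g * (u * ((s : Z) : G)) * g⁻¹ := by rw [e1]
            _ = _ := by group
        · ext; simp
        · intro p q; ext; simp [mul_assoc]
        · intro p q e1
          have := congrArg (fun z : K => (((z : ↥(centralizer ({t} : Set G)))) : G)) e1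
          exact Subtype.ext (Subtype.ext (mul_left_cancel (mul_right_cancel this)))
      have hge : 2 ^ r * mm ∣ Nat.card Z := by
        rw [← hK, ← Three.card_centralizer_conj (isConj_iff.2 ⟨g, rfl⟩ : IsConj u (g * u * g⁻¹))]
        refine card_dvd_of_injective
          ({ toFun := fun y => ⟨((y : ↥(centralizer ({t} : Set G))) : G),
              mem_centralizer_singleton_iff.2 (congrArg Subtype.val (mem_centralizer_singleton_iff.1 y.2))⟩
             map_one' := rfl
             map_mul' := fun _ _ => rfl } : K →* centralizer ({g * u * g⁻¹} : Set G)) ?_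
        exact fun p q e1 => Subtype.ext (Subtype.ext (congrArg (fun z : centralizer ({g * u * g⁻¹} : Set G) => (z : G)) e1 :))
      have hkr : k ≤ r :=
        (Nat.pow_dvd_pow_iff_le_right (by norm_num : 1 < 2)).1
          ((hmm.coprime_two_left.pow_left k).dvd_of_dvd_mul_right hle)
      have hrk : r ≤ k := by
        have h1' : 2 ^ r ∣ 2 ^ k * (171 * d) := by
          rw [show 2 ^ k * (171 * d) = 171 * (2 ^ k * d) by ring, hnd, ← hn]
          exact (Dvd.intro mm rfl).trans hge
        exact (Nat.pow_dvd_pow_iff_le_right (by norm_num : 1 < 2)).1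
          ((((show Odd 171 by decide).mul hdodd).coprime_two_left.pow_left r).dvd_of_dvd_mul_right h1')
      omega
    have hZ : Nat.card Z = 171 := by
      rcases hk with rfl | rfl | rfl
      · rw [pow_zero, one_mul] at hnd
        rw [hn, ← hnd, hd1 (hnd ▸ hn1)]
      · exact absurd (by rw [← hnd] at hn1; simpa using hn1) hd2
      · exact absurd (by rw [← hnd] at hn1; simpa using hn1) hd8
    obtain ⟨P, hP⟩ := (IsPGroup.of_card (n := 1) (show Nat.card (zpowers u) = 3 ^ 1 by
      rw [Nat.card_zpowers, hu, pow_one])).exists_le_sylow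
    have hNZ : N = Z := eq_of_le_of_card_ge hNC (by rw [hZ, hN])
    refine Three.not_data (u := u) (P := P) hG (commutator_eq_top h) (hP (mem_zpowers u)) ⟨hu, hZ, ?_, ?_⟩
    · intro hreal
      obtain ⟨g, hg⟩ := isConj_iff.1 hreal
      -- `g` normalises the centraliser of `u`, hence `X`
      have hgZ : ∀ z, z ∈ Z → g * z * g⁻¹ ∈ Z := by
        intro z hz
        refine mem_centralizer_singleton_iff.2 ?_
        have e1 := mem_centralizer_singleton_iff.1 hz
        have hginv : g * u⁻¹ * g⁻¹ = u := by
          have := congrArg (·⁻¹) hg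
          simpa [mul_assoc] using this
        calc g * z * g⁻¹ * u = g * z * g⁻¹ * (g * u⁻¹ * g⁻¹) := by rw [hginv]
          _ = g * (z * u⁻¹) * g⁻¹ := by group
          _ = g * (u⁻¹ * z) * g⁻¹ := by rw [(Commute.inv_right (show Commute z u from e1)).eq]
          _ = g * u⁻¹ * g⁻¹ * (g * z * g⁻¹) := by group
          _ = _ := by rw [hginv]
      -- the Sylow 19-subgroup of `N` is unique
      have hgX : (g • X : Sylow 19 G) = X := by
        have hle : ((g • X : Sylow 19 G) : Subgroup G) ≤ N := by
          rw [Sylow.coe_subgroup_smul]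
          rintro _ ⟨y, hy, rfl⟩
          rw [hNZ]
          exact hgZ y (hXZ hy)
        haveI : Subsingleton (Sylow 19 N) := by
          have hXn : ((X.subtype le_normalizer : Sylow 19 N) : Subgroup N).Normal :=
            Subgroup.normal_in_normalizer
          have := Sylow.unique_of_normal _ hXn
          infer_instance
        apply Sylow.ext
        have e1 := congrArg (fun S : Sylow 19 N => (S : Subgroup N))
          (Subsingleton.elim ((g • X).subtype hle) (X.subtype le_normalizer))
        have e2 := congrArg (Subgroup.map N.subtype) e1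
        simp only [Sylow.coe_subtype, map_subgroupOf_eq_of_le hle] at e2
        exact e2.trans (map_subgroupOf_eq_of_le (le_normalizer : (X : Subgroup G) ≤ N))
      have hgN : g ∈ N := (Sylow.smul_eq_iff_mem_normalizer).1 hgX
      rw [hNu g hgN] at hg
      have : u ^ 2 = 1 := by rw [pow_two]; nth_rw 2 [hg]; exact mul_inv_cancel u
      have hdd := orderOf_dvd_of_pow_eq_one this
      rw [hu] at hdd
      norm_num at hdd
    · rw [P.card_eq_multiplicity, hG, show 50232960 = 3 ^ 5 * (2 ^ 7 * 5 * 17 * 19) from rfl,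
        Nat.factorization_def _ Nat.prime_three, padicValNat.mul (by norm_num) (by norm_num),
        padicValNat.prime_pow, padicValNat.eq_zero_of_not_dvd (by norm_num)]
      norm_num
  · exfalso
    obtain ⟨v, hv⟩ := exists_prime_orderOf_dvd_card' (G := C) 17 (by
      rw [hC]; exact (h1.mul_left a).mul_left 19)
    obtain ⟨x, hx⟩ := exists_prime_orderOf_dvd_card' (G := ↥(X : Subgroup G)) 19 (dvd_of_eq hX.symm)
    exact h17 v x (by rw [orderOf_submonoid]; exact hv) (Or.inr (by rw [orderOf_submonoid]; exact hx))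
      (mem_centralizer_iff.1 v.2 x x.2).symm

end CfsgLib.Sporadic.J3Type
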