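import Cfsg.Agent.Lib.Sporadic.J3Type.Transfer
import Cfsg.Agent.Lib.PGroup.Kulakoff

/-!
# An element of order three with centraliser of order 171 in a perfect group of order 50232960

The class of such an element meets a Sylow 3-subgroup `P` in full cosets of `P'`, and the transfer
to `P/P'` is then not trivial.
-/

set_option autoImplicit false
set_option linter.style.haveILetI false
set_option linter.unusedSectionVars false

namespace CfsgLib.Sporadic.J3Type.Three

open Subgroup

variable {G : Type*} [Group G] [Finite G]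

theorem card_centralizer_conj {u v : G} (h : IsConj u v) :
    Nat.card (centralizer ({v} : Set G)) = Nat.card (centralizer ({u} : Set G)) := by
  obtain ⟨g, rfl⟩ := isConj_iff.1 h
  refine Nat.card_congr ((MulAut.conj g).toEquiv.subtypeEquiv fun x => ?_).symm
  show x ∈ centralizer ({u} : Set G) ↔ g * x * g⁻¹ ∈ centralizer ({g * u * g⁻¹} : Set G)
  simp only [mem_centralizer_singleton_iff]
  constructor <;> intro h
  · calc g * x * g⁻¹ * (g * u * g⁻¹) = g * (x * u) * g⁻¹ := by group
      _ = g * (u * x) * g⁻¹ := by rw [h]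
      _ = _ := by group
  · calc x * u = g⁻¹ * (g * x * g⁻¹ * (g * u * g⁻¹)) * g := by group
      _ = g⁻¹ * (g * u * g⁻¹ * (g * x * g⁻¹)) * g := by rw [h]
      _ = u * x := by group

/-- The data: an element of order three inside a Sylow 3-subgroup of order 243. -/
structure Data (u : G) (P : Sylow 3 G) : Prop where
  ord : orderOf u = 3
  cent : Nat.card (centralizer ({u} : Set G)) = 171
  real : ¬ IsConj u u⁻¹
  cardP : Nat.card P = 243

/-- The image in the abelianisation. -/
noncomputable def fP (P : Sylow 3 G) : ↥(P : Subgroup G) →* Abelianization ↥(P : Subgroup G) :=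
  Abelianization.of

theorem ker_fP (P : Sylow 3 G) : (fP P).ker = commutator ↥(P : Subgroup G) := Abelianization.ker_of _

variable {u : G} {P : Sylow 3 G}

theorem cube (h : Data u P) {v : ↥(P : Subgroup G)} (hv : IsConj u v) : v ^ 3 = 1 := by
  obtain ⟨g, hg⟩ := isConj_iff.1 hv
  apply Subtype.ext
  have h3 : u ^ 3 = 1 := h.ord ▸ pow_orderOf_eq_one u
  rw [SubmonoidClass.coe_pow, ← hg, conj_pow, h3]
  simp

theorem cent_in_P (h : Data u P) {v : ↥(P : Subgroup G)} (hv : IsConj u v) :
    Nat.card (centralizer ({v} : Set ↥(P : Subgroup G))) = 9 := by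
  haveI := Fact.mk Nat.prime_three
  set C := centralizer ({v} : Set ↥(P : Subgroup G)) with hCdef
  have hmap : C.map (P : Subgroup G).subtype ≤ centralizer ({(v : G)} : Set G) := by
    rintro _ ⟨x, hx, rfl⟩
    exact mem_centralizer_singleton_iff.2 (congrArg Subtype.val (mem_centralizer_singleton_iff.1 hx))
  have h171 : Nat.card C ∣ 171 := by
    have := card_dvd_of_le hmap
    rwa [card_centralizer_conj hv, h.cent, card_map_of_injective (subtype_injective _)] at this
  have h243 : Nat.card C ∣ 243 := by
    have := C.card_subgroup_dvd_card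
    rwa [h.cardP] at this
  have h9 : Nat.card C ∣ 9 := by simpa using Nat.dvd_gcd h171 h243
  have hPp : IsPGroup 3 ↥(P : Subgroup G) := P.isPGroup'
  haveI : Nontrivial ↥(P : Subgroup G) := Finite.one_lt_card_iff_nontrivial.1 (by rw [h.cardP]; norm_num)
  haveI := hPp.center_nontrivial
  have hZ : center ↥(P : Subgroup G) ≤ C := fun x hx =>
    mem_centralizer_singleton_iff.2 ((mem_center_iff.1 hx v).symm)
  have hne : center ↥(P : Subgroup G) ≠ C := by
    intro e
    have hvC : v ∈ C := mem_centralizer_singleton_iff.2 rfl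
    rw [← e] at hvC
    have hC : C = ⊤ := by
      rw [eq_top_iff]
      exact fun x _ => mem_centralizer_singleton_iff.2 (mem_center_iff.1 hvC x)
    rw [hC, card_top, h.cardP] at h171
    norm_num at h171
  have h1 : 1 < Nat.card (center ↥(P : Subgroup G)) := Finite.one_lt_card
  have hd : Nat.card (center ↥(P : Subgroup G)) ∣ Nat.card C := card_dvd_of_le hZ
  have hlt : Nat.card (center ↥(P : Subgroup G)) ≠ Nat.card C := fun e =>
    hne (eq_of_le_of_card_ge hZ e.ge)
  have h3 : Nat.card C ∈ ({1, 3, 9} : Finset ℕ) := by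
    rw [show ({1, 3, 9} : Finset ℕ) = Nat.divisors 9 from rfl]
    exact Nat.mem_divisors.2 ⟨h9, by norm_num⟩
  simp only [Finset.mem_insert, Finset.mem_singleton] at h3
  rcases h3 with e | e | e
  · rw [e] at hd; have := Nat.le_of_dvd one_pos hd; omega
  · rw [e] at hd hlt
    rcases (Nat.dvd_prime Nat.prime_three).1 hd with e' | e' <;> omega
  · exact e

theorem comm_le (h : Data u P) : Nat.card (commutator ↥(P : Subgroup G)) ≤ 27 := by
  haveI := Fact.mk Nat.prime_three
  have hmul := (commutator ↥(P : Subgroup G)).card_mul_index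
  rw [h.cardP] at hmul
  by_cases hc : IsCyclic ↥(P : Subgroup G)
  · haveI := hc
    have : commutator ↥(P : Subgroup G) = ⊥ := by
      rw [commutator_def, eq_bot_iff, commutator_le]
      intro x _ y _
      rw [mem_bot, commutatorElement_eq_one_iff_mul_comm]
      exact IsCyclic.isMulCommutative.is_comm.comm x y
    rw [this, card_bot]; norm_num
  · have := CfsgLib.PGroup.Kulakoff.sq_le_commutator_index P.isPGroup' hc
    by_contra hlt
    nlinarith

/-- The cosets of the commutator subgroup met by the class consist of conjugates. -/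
theorem coset_conj (h : Data u P) {v w : ↥(P : Subgroup G)} (hv : IsConj u v) (hw : fP P w = fP P v) :
    ∃ x : ↥(P : Subgroup G), x * v * x⁻¹ = w := by
  set C := centralizer ({v} : Set ↥(P : Subgroup G))
  let φ : ↥(P : Subgroup G) ⧸ C → {w : ↥(P : Subgroup G) // fP P w = fP P v} :=
    Quotient.lift (fun x => ⟨x * v * x⁻¹, by simp [mul_comm]⟩) fun a b hab => by
      have hab' : a⁻¹ * b ∈ C := QuotientGroup.leftRel_apply.1 hab
      have := mem_centralizer_singleton_iff.1 hab'
      apply Subtype.ext
      calc a * v * a⁻¹ = a * (v * (a⁻¹ * b)) * b⁻¹ := by group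
        _ = a * (a⁻¹ * b * v) * b⁻¹ := by rw [this]
        _ = _ := by group
  have hinj : Function.Injective φ := by
    intro a b
    induction a using QuotientGroup.induction_on with | H a => ?_
    induction b using QuotientGroup.induction_on with | H b => ?_
    intro e
    have e' : a * v * a⁻¹ = b * v * b⁻¹ := congrArg Subtype.val e
    refine QuotientGroup.eq.2 (mem_centralizer_singleton_iff.2 ?_)
    calc a⁻¹ * b * v = a⁻¹ * (b * v * b⁻¹) * b := by group
      _ = a⁻¹ * (a * v * a⁻¹) * b := by rw [e']
      _ = _ := by group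
  have hcard : Nat.card {w : ↥(P : Subgroup G) // fP P w = fP P v} ≤ Nat.card (↥(P : Subgroup G) ⧸ C) := by
    have e : {w : ↥(P : Subgroup G) // fP P w = fP P v} ≃ (fP P).ker :=
      { toFun := fun w => ⟨w.1 * v⁻¹, by rw [MonoidHom.mem_ker, map_mul, map_inv, w.2, mul_inv_cancel]⟩
        invFun := fun k => ⟨k.1 * v, by rw [map_mul, MonoidHom.mem_ker.1 k.2, one_mul]⟩
        left_inv := fun w => by simp
        right_inv := fun k => by simp }
    rw [Nat.card_congr e, ker_fP, ← index_eq_card]
    have hmul := C.card_mul_index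
    rw [cent_in_P h hv, h.cardP] at hmul
    have := comm_le h
    omega
  obtain ⟨q, hq⟩ := (hinj.bijective_of_nat_card_le hcard).2 ⟨w, hw⟩
  induction q using QuotientGroup.induction_on with | H x => ?_
  exact ⟨x, congrArg Subtype.val hq⟩

theorem fP_ne_one (h : Data u P) {v : ↥(P : Subgroup G)} (hv : IsConj u v) : fP P v ≠ 1 := by
  intro e
  obtain ⟨x, hx⟩ := coset_conj h hv (show fP P 1 = fP P v by rw [map_one, e])
  have hv1 : v = 1 := by simpa using hx
  subst hv1
  have := cent_in_P h hv
  rw [show centralizer ({1} : Set ↥(P : Subgroup G)) = ⊤ from eq_top_iff.2 fun x _ =>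
    mem_centralizer_singleton_iff.2 (by simp), card_top, h.cardP] at this
  norm_num at this

theorem fP_inv_ne (h : Data u P) {v w : ↥(P : Subgroup G)} (hv : IsConj u v) (hw : IsConj u w) :
    fP P w ≠ (fP P v)⁻¹ := by
  intro e
  obtain ⟨x, hx⟩ := coset_conj h hw (show fP P v⁻¹ = fP P w by rw [map_inv, e])
  apply h.real
  have h1 : IsConj u (v⁻¹ : G) := by
    refine hw.trans (isConj_iff.2 ⟨x, ?_⟩)
    simpa using congrArg Subtype.val hx
  obtain ⟨g, hg⟩ := isConj_iff.1 hv
  refine h1.trans (isConj_iff.2 ⟨g⁻¹, ?_⟩)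
  rw [← hg]; group

/-- Conjugation by an element of the normaliser. -/
noncomputable def sig (P : Sylow 3 G) (g : normalizer ((P : Subgroup G) : Set G)) :
    ↥(P : Subgroup G) →* ↥(P : Subgroup G) where
  toFun v := ⟨g * v * (g : G)⁻¹, (mem_normalizer_iff.1 g.2 v).1 v.2⟩
  map_one' := by simp
  map_mul' a b := Subtype.ext (by simp)

/-- Its action on the abelianisation. -/
noncomputable def sigA (P : Sylow 3 G) (g : normalizer ((P : Subgroup G) : Set G)) :
    Abelianization ↥(P : Subgroup G) →* Abelianization ↥(P : Subgroup G) :=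
  Abelianization.map (sig P g)

theorem sigA_f (g : normalizer ((P : Subgroup G) : Set G)) (v : ↥(P : Subgroup G)) :
    sigA P g (fP P v) = fP P (sig P g v) := Abelianization.map_of _ _

theorem sig_mul (a b : normalizer ((P : Subgroup G) : Set G)) (v : ↥(P : Subgroup G)) :
    sig P a (sig P b v) = sig P (a * b) v := Subtype.ext (by
  show (a : G) * ((b : G) * v * (b : G)⁻¹) * (a : G)⁻¹ = ((a * b : _) : G) * v * ((a * b : _) : G)⁻¹
  simp [mul_assoc])

theorem sig_conj {v : ↥(P : Subgroup G)} (hv : IsConj u v) (g : normalizer ((P : Subgroup G) : Set G)) :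
    IsConj u (sig P g v : G) := hv.trans (isConj_iff.2 ⟨g, rfl⟩)

theorem moves (h : Data u P) {v : ↥(P : Subgroup G)} (hv : IsConj u v) {q : ℕ} (hq : q.Prime)
    (h3 : q ≠ 3) (h19 : q ≠ 19) {g : normalizer ((P : Subgroup G) : Set G)} (hg : orderOf g = q) :
    fP P (sig P g v) ≠ fP P v := by
  intro e
  obtain ⟨x, hx⟩ := coset_conj h hv e
  let xN : normalizer ((P : Subgroup G) : Set G) := ⟨x, le_normalizer x.2⟩
  have hmem : (x : G)⁻¹ * g ∈ centralizer ({(v : G)} : Set G) := by
    have hx' : (x : G) * v * (x : G)⁻¹ = g * v * (g : G)⁻¹ := congrArg Subtype.val hx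
    refine mem_centralizer_singleton_iff.2 ?_
    calc (x : G)⁻¹ * g * v = (x : G)⁻¹ * (g * v * (g : G)⁻¹) * g := by group
      _ = (x : G)⁻¹ * ((x : G) * v * (x : G)⁻¹) * g := by rw [hx']
      _ = _ := by group
  have h171 : ((x : G)⁻¹ * g) ^ 171 = 1 := by
    refine orderOf_dvd_iff_pow_eq_one.1 ?_
    have h1 := orderOf_dvd_natCard (⟨_, hmem⟩ : centralizer ({(v : G)} : Set G))
    rwa [Subgroup.orderOf_mk, card_centralizer_conj hv, h.cent] at h1
  set π := QuotientGroup.mk' ((P : Subgroup G).subgroupOf (normalizer ((P : Subgroup G) : Set G)))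
  have hxP : π xN = 1 := (QuotientGroup.eq_one_iff _).2 x.2
  have hN : (xN⁻¹ * g) ^ 171 = 1 := Subtype.ext (by simpa [xN] using h171)
  have h1 : π g ^ 171 = 1 := by
    have := congrArg π hN
    rwa [map_pow, map_mul, map_inv, hxP, inv_one, one_mul, map_one] at this
  have h2 : π g ^ q = 1 := by rw [← map_pow, ← hg, pow_orderOf_eq_one, map_one]
  have hco : Nat.gcd 171 q = 1 := by
    refine ((Nat.coprime_primes Nat.prime_three hq).2 h3.symm |>.pow_left 2 |>.mul_left
      ((Nat.coprime_primes (by norm_num : Nat.Prime 19) hq).2 h19.symm) : Nat.Coprime (3 ^ 2 * 19) q)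
  have h4 : π g = 1 := by
    have := pow_gcd_eq_one.2 ⟨h1, h2⟩
    rwa [hco, pow_one] at this
  have h5 : (g : G) ∈ (P : Subgroup G) := (QuotientGroup.eq_one_iff g).1 h4
  have h6 := orderOf_dvd_natCard (⟨_, h5⟩ : ↥(P : Subgroup G))
  rw [Subgroup.orderOf_mk, h.cardP, orderOf_submonoid, hg] at h6
  exact h3 ((Nat.prime_dvd_prime_iff_eq hq Nat.prime_three).1 (hq.dvd_of_dvd_pow (n := 5) h6))

theorem exists_involution (h : Data u P) (hG : Nat.card G = 50232960) {v : ↥(P : Subgroup G)}
    (hv : IsConj u v) : ∃ r : normalizer ((P : Subgroup G) : Set G), orderOf r = 2 := by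
  haveI := Fact.mk Nat.prime_three
  set N := normalizer ((P : Subgroup G) : Set G)
  have hn : Nat.card (Sylow 3 G) % 3 = 1 := card_sylow_modEq_one 3 G
  rw [P.card_eq_index_normalizer] at hn
  obtain ⟨m, hm⟩ : 243 ∣ Nat.card N := h.cardP ▸ card_dvd_of_le le_normalizer
  have hmul : Nat.card N * N.index = Nat.card G := N.card_mul_index
  rw [hG, hm, show 50232960 = 243 * 206720 from rfl, mul_assoc] at hmul
  have hmn : m * N.index = 206720 := Nat.eq_of_mul_eq_mul_left (by norm_num) hmul
  have hm3 : m % 3 = 2 := by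
    have : (m * N.index) % 3 = 206720 % 3 := by rw [hmn]
    rw [Nat.mul_mod, show N.index % 3 = 1 from hn, mul_one, Nat.mod_mod] at this
    exact this
  have hcases : 2 ∣ m ∨ 5 ∣ m ∨ 17 ∣ m := by
    by_contra hno
    push Not at hno
    have hd : m ∣ 2 ^ 7 * (5 * 17 * 19) := ⟨N.index, by rw [hmn]; norm_num⟩
    have c2 : m.Coprime (2 ^ 7) := ((Nat.prime_two.coprime_iff_not_dvd.2 hno.1).symm).pow_right 7
    have c5 : m.Coprime 5 := ((Nat.Prime.coprime_iff_not_dvd (by norm_num)).2 hno.2.1).symm
    have c17 : m.Coprime 17 := ((Nat.Prime.coprime_iff_not_dvd (by norm_num)).2 hno.2.2).symm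
    have h19 : m ∣ 19 := (c5.mul_right c17).dvd_of_dvd_mul_left (c2.dvd_of_dvd_mul_left hd)
    rcases (Nat.dvd_prime (by norm_num)).1 h19 with e | e <;> rw [e] at hm3 <;> norm_num at hm3
  rcases hcases with hd | hd
  · haveI := Fact.mk Nat.prime_two
    exact exists_prime_orderOf_dvd_card' 2 (hm ▸ hd.mul_left 243)
  obtain ⟨q, hq, hq5, hqN⟩ : ∃ q, q.Prime ∧ (q = 5 ∨ q = 17) ∧ q ∣ Nat.card N := by
    rcases hd with hd | hd
    · exact ⟨5, by norm_num, Or.inl rfl, hm ▸ hd.mul_left 243⟩
    · exact ⟨17, by norm_num, Or.inr rfl, hm ▸ hd.mul_left 243⟩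
  haveI := Fact.mk hq
  obtain ⟨g, hg⟩ := exists_prime_orderOf_dvd_card' q hqN
  exfalso
  -- the images of the conjugates are at most four, but `g` has an orbit of length `q` on them
  classical
  haveI := Fintype.ofFinite (Abelianization ↥(P : Subgroup G))
  let S : Finset (Abelianization ↥(P : Subgroup G)) :=
    Finset.univ.filter fun c => ∃ w : ↥(P : Subgroup G), IsConj u w ∧ fP P w = c
  have hA : Nat.card (Abelianization ↥(P : Subgroup G)) ≤ 9 := by
    have hk := (fP P).ker.card_mul_index
    rw [h.cardP] at hk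
    have hx : 27 ≤ Nat.card (fP P).ker := by
      have hi : Function.Injective (fun x : ↥(P : Subgroup G) ⧸ centralizer ({v} : Set ↥(P : Subgroup G)) =>
          (Quotient.liftOn' x (fun a => a * v * a⁻¹) (fun a b hab => by
            have hab' := mem_centralizer_singleton_iff.1 (QuotientGroup.leftRel_apply.1 hab)
            calc a * v * a⁻¹ = a * (v * (a⁻¹ * b)) * b⁻¹ := by group
              _ = a * (a⁻¹ * b * v) * b⁻¹ := by rw [hab']
              _ = _ := by group)) * v⁻¹) := by
        intro a b
        induction a using QuotientGroup.induction_on with | H a => ?_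
        induction b using QuotientGroup.induction_on with | H b => ?_
        intro e
        have e' : a * v * a⁻¹ = b * v * b⁻¹ := mul_right_cancel e
        refine QuotientGroup.eq.2 (mem_centralizer_singleton_iff.2 ?_)
        calc a⁻¹ * b * v = a⁻¹ * (b * v * b⁻¹) * b := by group
          _ = a⁻¹ * (a * v * a⁻¹) * b := by rw [e']
          _ = _ := by group
      have := Nat.card_le_card_of_injective
        (fun x => (⟨_, show _ ∈ (fP P).ker by
          induction x using QuotientGroup.induction_on with | H a => ?_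
          simp [MonoidHom.mem_ker, mul_comm]⟩ : (fP P).ker))
        (fun a b e => hi (congrArg Subtype.val e))
      have hc := (centralizer ({v} : Set ↥(P : Subgroup G))).card_mul_index
      rw [cent_in_P h hv, h.cardP] at hc
      rw [← index_eq_card] at this
      omega
    rw [show (fP P).ker.index = Nat.card (Abelianization ↥(P : Subgroup G)) by
      rw [ker_fP]; rfl] at hk
    nlinarith
  have hS : S.card ≤ 4 := by
    have hdis : Disjoint S (S.image fun c => c⁻¹) := by
      rw [Finset.disjoint_left]
      intro c hc hc'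
      obtain ⟨d, hd, rfl⟩ := Finset.mem_image.1 hc'
      obtain ⟨w, hw, e⟩ := (Finset.mem_filter.1 hc).2
      obtain ⟨w', hw', rfl⟩ := (Finset.mem_filter.1 hd).2
      exact fP_inv_ne h hw' hw e
    have hsub : S ∪ S.image (fun c => c⁻¹) ⊆ Finset.univ.erase 1 := by
      intro c hc
      refine Finset.mem_erase.2 ⟨?_, Finset.mem_univ _⟩
      rcases Finset.mem_union.1 hc with hc | hc
      · obtain ⟨w, hw, rfl⟩ := (Finset.mem_filter.1 hc).2
        exact fP_ne_one h hw
      · obtain ⟨d, hd, rfl⟩ := Finset.mem_image.1 hc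
        obtain ⟨w, hw, rfl⟩ := (Finset.mem_filter.1 hd).2
        exact fun e => fP_ne_one h hw (inv_eq_one.1 e)
    have := Finset.card_le_card hsub
    rw [Finset.card_union_of_disjoint hdis, Finset.card_image_of_injective _ inv_injective,
      Finset.card_erase_of_mem (Finset.mem_univ _), Finset.card_univ, ← Nat.card_eq_fintype_card] at this
    omega
  let F := fun c => sigA P g c
  have hit : ∀ (n : ℕ) (w : ↥(P : Subgroup G)), F^[n] (fP P w) = fP P (sig P (g ^ n) w) := by
    intro n
    induction n with
    | zero => intro w; exact congrArg (fP P) (Subtype.ext (by simp [sig]))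
    | succ n ih => intro w; rw [Function.iterate_succ_apply', ih, pow_succ', ← sig_mul]; exact sigA_f g _
  have hp : Function.minimalPeriod F (fP P v) = q := by
    haveI := Fact.mk hq
    refine Function.minimalPeriod_eq_prime ?_ ?_
    · show F^[q] (fP P v) = fP P v
      rw [hit, ← hg, pow_orderOf_eq_one]
      exact congrArg (fP P) (Subtype.ext (by simp [sig]))
    · intro e
      have h19 : q ≠ 19 := by omega
      exact moves h hv hq (by omega) h19 hg ((sigA_f g v).symm.trans e)
  have := Finset.card_le_card_of_injOn (s := Finset.range q) (t := S) (fun n => F^[n] (fP P v))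
    (fun n _ => Finset.mem_filter.2 ⟨Finset.mem_univ _, _, sig_conj hv _, (hit n v).symm⟩)
    (fun a ha b hb e => Function.iterate_injOn_Iio_minimalPeriod
      (by rw [hp]; exact Finset.mem_range.1 ha) (by rw [hp]; exact Finset.mem_range.1 hb) e)
  rw [Finset.card_range] at this
  omega

end CfsgLib.Sporadic.J3Type.Three
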